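import Cfsg.Agent.H39.DihedralSylow
import Cfsg.Agent.H61.CoreClosure
import Cfsg.Agent.Cores.PCore
import Cfsg.Agent.S0508
import Cfsg.Agent.S0514

/-!
# GW programme: the exit to `PSL(2,q)`

If the reflections of the Sylow 2-subgroup act fixed-point-freely on the core of the centralizer `C(t)` of the
central involution and `C(t)` is maximal, then the hypotheses of S0508 hold.
-/

namespace Cfsg.Agent.H36.GW

open Subgroup

set_option linter.unusedSectionVars false

variable {G : Type*} [Group G] [Finite G]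

/-- The core of the centralizer of `t`, as a subgroup of `G`. -/
noncomputable def coreC (t : G) : Subgroup G :=
  (Cfsg.oddCore (centralizer ({t} : Set G))).map (centralizer ({t} : Set G)).subtype

theorem coreC_le (t : G) : coreC t ≤ centralizer ({t} : Set G) :=
  map_subtype_le _

theorem odd_card_coreC (t : G) : Odd (Nat.card (coreC t)) := by
  unfold coreC
  rw [Subgroup.card_subtype]
  exact Cores.odd_card_oddCore

theorem conj_mem_coreC {t g y : G} (hg : g ∈ centralizer ({t} : Set G)) (hy : y ∈ coreC t) :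
    g * y * g⁻¹ ∈ coreC t := by
  obtain ⟨y', hy', rfl⟩ := hy
  exact ⟨⟨g, hg⟩ * y' * ⟨g, hg⟩⁻¹, Normal.conj_mem inferInstance y' hy' ⟨g, hg⟩, rfl⟩

variable {S : Sylow 2 G} {l : ℕ} {c s : G}

theorem sylow_le_centralizer (hD : H39.DGen (S : Subgroup G) l c s) :
    (S : Subgroup G) ≤ centralizer ({c ^ l} : Set G) := fun _ hg =>
  mem_centralizer_singleton_iff.mpr (hD.z_central hg)

/-- The centralizer of the central involution is the product of its core and the Sylow subgroup. -/
theorem centralizer_le_coreC_sup (hD : H39.DGen (S : Subgroup G) l c s) {n : ℕ} (hn : 2 ≤ n)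
    (hS : Nonempty ((S : Subgroup G) ≃* DihedralGroup n)) :
    centralizer ({c ^ l} : Set G) ≤ coreC (c ^ l) ⊔ (S : Subgroup G) := by
  set C := centralizer ({c ^ l} : Set G) with hC
  obtain ⟨N, hN, hNo, k, hk⟩ := S0514.result S n hn hS (c ^ l) hD.z_order
  have := hN
  let P : Sylow 2 C := S.subtype (sylow_le_centralizer hD)
  have hcop : Nat.Coprime N.index (P : Subgroup C).index := by
    rw [hk]
    exact Nat.Coprime.pow_left _ (Nat.coprime_two_left.mpr
      (Nat.not_even_iff_odd.mp fun h => P.not_dvd_index (even_iff_two_dvd.mp h)))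
  have htop : N ⊔ (P : Subgroup C) = ⊤ :=
    index_eq_one.mp (Nat.eq_one_of_dvd_coprimes hcop (index_dvd_of_le le_sup_left) (index_dvd_of_le le_sup_right))
  intro g hg
  have h1 : (⟨g, hg⟩ : C) ∈ N ⊔ (P : Subgroup C) := htop ▸ mem_top _
  have h2 := mem_map_of_mem C.subtype h1
  rw [Subgroup.map_sup] at h2
  have hle : N.map C.subtype ⊔ (P : Subgroup C).map C.subtype ≤ coreC (c ^ l) ⊔ (S : Subgroup G) := by
    refine sup_le_sup ?_ ?_
    · exact map_mono (Cores.le_oddCore hNo)
    · rintro _ ⟨x, hx, rfl⟩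
      exact hx
  exact hle h2

/-- **Exit to `PSL(2,q)`.** -/
theorem psl_of_maximal [IsSimpleGroup G] {n : ℕ} (hn : 2 ≤ n)
    (hS : Nonempty ((S : Subgroup G) ≃* DihedralGroup n)) (hD : H39.DGen (S : Subgroup G) l c s)
    (hfpf : ∀ i : ℤ, ∀ y ∈ coreC (c ^ l), Commute (c ^ i * s) y → y = 1)
    (hmax : ∀ M : Subgroup G, centralizer ({c ^ l} : Set G) ≤ M → M ≠ ⊤ →
      M ≤ centralizer ({c ^ l} : Set G)) :
    ∃ (F : Type) (_ : Field F) (_ : Fintype F), Odd (Fintype.card F) ∧
      Nonempty (G ≃* Matrix.ProjectiveSpecialLinearGroup (Fin 2) F) := by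
  set t := c ^ l with ht
  set O := coreC t with hO
  have hSC := sylow_le_centralizer hD
  have hinv : ∀ i : ℤ, ∀ y ∈ O, (c ^ i * s) * y * (c ^ i * s)⁻¹ = y⁻¹ := fun i =>
    H61.inverts_of_fpf (by rw [pow_two]; exact hD.out_mul_self i)
      (fun y hy => conj_mem_coreC (hSC (mul_mem (hD.zpow_mem i) hD.mem_s)) hy) (hfpf i)
  have hcomm : ∀ a ∈ O, ∀ b ∈ O, a * b = b * a := by
    intro a ha b hb
    have h1 := hinv 0 (a * b) (mul_mem ha hb)
    have h2 : c ^ (0 : ℤ) * s * (a * b) * (c ^ (0 : ℤ) * s)⁻¹ = a⁻¹ * b⁻¹ := by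
      rw [← hinv 0 a ha, ← hinv 0 b hb]; group
    rw [h1, mul_inv_rev] at h2
    exact inv_injective (by rw [mul_inv_rev, mul_inv_rev]; exact h2)
  have hrot : ∀ g ∈ zpowers c, g ∈ centralizer (O : Set G) := by
    rw [← SetLike.le_def, zpowers_le]
    intro y hy
    have hcs : c ^ (1 : ℤ) * s * (c ^ (0 : ℤ) * s) = c := by
      rw [zpow_one, zpow_zero, one_mul, mul_assoc, H39.mul_self_of_orderOf_eq_two hD.os, mul_one]
    have h1 : c * y * c⁻¹ = y := by
      calc c * y * c⁻¹ = (c ^ (1 : ℤ) * s) * ((c ^ (0 : ℤ) * s) * y * (c ^ (0 : ℤ) * s)⁻¹) *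
            (c ^ (1 : ℤ) * s)⁻¹ := by
              conv_lhs => rw [← hcs]
              group
        _ = y := by rw [hinv 0 y hy, hinv 1 _ (inv_mem hy), inv_inv]
    exact (mul_inv_eq_iff_eq_mul.mp h1).symm
  have hSinv : ∀ g ∈ (S : Subgroup G), g ∉ zpowers c → ∀ y ∈ O, g * y * g⁻¹ = y⁻¹ := by
    intro g hg hgc
    obtain ⟨i, rfl⟩ := hD.out_form hg hgc
    exact hinv i
  have hcent : O ≠ ⊥ → (S : Subgroup G) ⊓ centralizer (O : Set G) = zpowers c := by
    intro hne
    apply le_antisymm
    · rintro g ⟨hg, hgO⟩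
      by_contra hgc
      obtain ⟨i, rfl⟩ := hD.out_form hg hgc
      exact hne ((Subgroup.eq_bot_iff_forall _).mpr fun y hy => hfpf i y hy ((hgO y hy).symm))
    · exact le_inf (zpowers_le.mpr hD.mem_c) hrot
  refine S0508.result S n hn hS t hD.z_order hD.z_mem (fun g hg => hD.z_central hg) O rfl ?_ ?_ ?_
  · intro hne
    rw [hcent hne]
    refine ⟨inferInstance, ?_⟩
    rw [relIndex, index_eq_two_iff]
    refine ⟨⟨s, hD.mem_s⟩, fun b => ?_⟩
    simp only [mem_subgroupOf, Subgroup.coe_mul]
    by_cases hb : (b : G) ∈ zpowers c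
    · refine Or.inr ⟨hb, fun h => hD.out ?_⟩
      have := mul_mem (inv_mem hb) h
      rwa [← mul_assoc, inv_mul_cancel, one_mul] at this
    · refine Or.inl ⟨?_, hb⟩
      exact (hD.cases b b.2).resolve_left hb
  · intro g hg hgC
    exact hSinv g hg fun h => hgC (hrot g h)
  · intro Y hY hne
    have hCN : centralizer ({t} : Set G) ≤ normalizer (Y : Set G) := by
      refine (centralizer_le_coreC_sup hD hn hS).trans (sup_le ?_ ?_)
      · intro a ha
        rw [mem_normalizer_iff]
        intro h
        constructor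
        · intro hh
          rwa [hcomm a ha h (hY hh), mul_inv_cancel_right]
        · intro hh
          have h' := hY hh
          have hb : h ∈ O := by
            have := mul_mem (mul_mem (inv_mem ha) h') ha
            simpa [mul_assoc] using this
          rwa [hcomm a ha h hb, mul_inv_cancel_right] at hh
      · intro g hg
        have key : ∀ y ∈ O, g * y * g⁻¹ = y ∨ g * y * g⁻¹ = y⁻¹ := fun y hy => by
          by_cases hgc : g ∈ zpowers c
          · exact Or.inl (by rw [← hrot g hgc y hy, mul_inv_cancel_right])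
          · exact Or.inr (hSinv g hg hgc y hy)
        rw [mem_normalizer_iff]
        intro h
        constructor
        · intro hh
          rcases key h (hY hh) with e | e <;> rw [e]
          · exact hh
          · exact inv_mem hh
        · intro hh
          have hb : h ∈ O := by
            have := conj_mem_coreC (inv_mem (hSC hg)) (hY hh)
            simpa [mul_assoc, hO] using this
          rcases key h hb with e | e <;> rw [e] at hh
          · exact hh
          · exact inv_mem_iff.mp hh
    refine hmax _ hCN fun htop => ?_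
    have : Y.Normal := normalizer_eq_top_iff.mp htop
    rcases Normal.eq_bot_or_eq_top (H := Y) inferInstance with h | h
    · exact hne h
    · have h4 := orderOf_dvd_natCard O (hY (h ▸ mem_top t))
      rw [hD.z_order] at h4
      exact Nat.not_even_iff_odd.mpr (odd_card_coreC t) (even_iff_two_dvd.mpr h4)

end Cfsg.Agent.H36.GW
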