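import Cfsg.Agent.H39.DihedralFusion
import Cfsg.Agent.H82.GW.Layer
import Cfsg.Agent.Components.Layer
import Cfsg.Agent.S0205
import Cfsg.Agent.S0206

/-!
# GW programme, P1: the layer of a subgroup with dihedral Sylow 2-subgroups

`commute_core`, `meets_four` and `fused_inner` of `LayerShape`; only the shape of the Sylow 2-subgroups is used.
-/

set_option autoImplicit false
set_option linter.unusedSectionVars false

namespace Cfsg.Agent.H36.GW

open Subgroup Cfsg.Agent

universe u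

/-! ### Dihedral groups -/

section Dihedral

variable {G : Type u} [Group G] [Finite G] {l : ℕ} {c s : G}

/-- A subgroup normalised by a dihedral group and containing a reflection has index at most two in it. -/
theorem mem_or_mul_mem {P : Subgroup G} (hD : H39.DGen P l c s) {N : Subgroup G}
    (hN : P ≤ normalizer (N : Set G)) {i : ℤ} (hi : c ^ i * s ∈ N) {x y : G} (hx : x ∈ P) (hy : y ∈ P) :
    x ∈ N ∨ y ∈ N ∨ x * y ∈ N := by
  have hcj : ∀ {g h : G}, g ∈ P → h ∈ N → g * h * g⁻¹ ∈ N := fun hg hh =>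
    (mem_normalizer_iff.mp (hN hg) _).mp hh
  have hc2 : c ^ (2 : ℤ) ∈ N := by
    have h1 := mul_mem (hcj hD.mem_c hi) hi
    rwa [show c * (c ^ i * s) * c⁻¹ = c ^ (2 : ℤ) * (c ^ i * s) by
      have := hD.conj_reflection i 1
      rw [zpow_one, mul_one] at this
      rw [this, ← mul_assoc, ← zpow_add, add_comm], mul_assoc, hD.out_mul_self i, mul_one] at h1
  have hpow : ∀ g ∈ zpowers c, g ∈ N ∨ c⁻¹ * g ∈ N := by
    rintro g ⟨k, rfl⟩
    rcases Int.even_or_odd' k with ⟨j, rfl | rfl⟩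
    · left
      show c ^ (2 * j) ∈ N
      rw [zpow_mul]
      exact N.zpow_mem hc2 j
    · right
      show c⁻¹ * c ^ (2 * j + 1) ∈ N
      rw [show c⁻¹ * c ^ (2 * j + 1) = c ^ (2 * j) by rw [add_comm, zpow_add, zpow_one, inv_mul_cancel_left],
        zpow_mul]
      exact N.zpow_mem hc2 j
  have hdich : ∀ g ∈ P, g ∈ N ∨ c⁻¹ * g ∈ N := by
    intro g hg
    by_cases hgc : g ∈ zpowers c
    · exact hpow g hgc
    obtain ⟨k, rfl⟩ := hD.out_form hg hgc
    rw [show c ^ k * s = c ^ (k - i) * (c ^ i * s) by rw [← mul_assoc, ← zpow_add, sub_add_cancel]]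
    rcases hpow _ (zpow_mem (mem_zpowers c) (k - i)) with h | h
    · exact Or.inl (mul_mem h hi)
    · exact Or.inr (by rw [← mul_assoc]; exact mul_mem h hi)
  rcases hdich x hx with h | h
  · exact Or.inl h
  rcases hdich y hy with h' | h'
  · exact Or.inr (Or.inl h')
  refine Or.inr (Or.inr ?_)
  have h1 := mul_mem (mul_mem hc2 (hcj (inv_mem hD.mem_c) h)) h'
  rwa [show c ^ (2 : ℤ) * (c⁻¹ * (c⁻¹ * x) * c⁻¹⁻¹) * (c⁻¹ * y) = x * y by group] at h1

variable {S : Sylow 2 G}

/-- An element fixing a four group and moving a reflection to the central involution. -/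
theorem exists_map_reflection (hD : H39.DGen (S : Subgroup G) l c s)
    (hno : ∀ H : Subgroup G, H.index ≠ 2) {U : Subgroup G} (hU : IsKleinFour U) (hUS : U ≤ S)
    (hz : c ^ l ∈ U) {r : G} (hr : r ∈ U) (hr1 : orderOf r = 2) :
    ∃ h ∈ normalizer (U : Set G), h * r * h⁻¹ = c ^ l := by
  haveI : Fact (Nat.Prime 2) := ⟨Nat.prime_two⟩
  obtain ⟨g, hg⟩ := isConj_iff.mp (hD.isConj_z_of_no_index_two hno hr1).symm
  set U' : Subgroup G := U.map (MulAut.conj g).toMonoidHom with hU'
  have hU'C : U' ≤ centralizer ({c ^ l} : Set G) := by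
    rintro _ ⟨u, hu, rfl⟩
    rw [mem_centralizer_singleton_iff]
    simp only [MulEquiv.coe_toMonoidHom, MulAut.conj_apply, ← hg]
    rw [show g * u * g⁻¹ * (g * r * g⁻¹) = g * (u * r) * g⁻¹ by group,
      show g * r * g⁻¹ * (g * u * g⁻¹) = g * (r * u) * g⁻¹ by group, H39.commute_of_klein hU hu hr]
  have hSC : (S : Subgroup G) ≤ centralizer ({c ^ l} : Set G) := fun _ hx =>
    mem_centralizer_singleton_iff.mpr (hD.z_central hx)
  let T : Sylow 2 ↥(centralizer ({c ^ l} : Set G)) := S.subtype hSC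
  have hp : IsPGroup 2 (U'.subgroupOf (centralizer ({c ^ l} : Set G))) :=
    (IsPGroup.of_card (n := 2) ((H39.card_map_conj U g).trans hU.card_four)).comap_of_injective _
      (Subgroup.subtype_injective _)
  obtain ⟨x, hx⟩ := H39.exists_conj_le_sylow hp T
  have hxz : (x : G) * c ^ l * (x : G)⁻¹ = c ^ l := by
    rw [mem_centralizer_singleton_iff.mp x.2, mul_inv_cancel_right]
  have hxU : U.map (MulAut.conj ((x : G) * g)).toMonoidHom ≤ S := by
    rintro _ ⟨u, hu, rfl⟩
    have hm : g * u * g⁻¹ ∈ U' := ⟨u, hu, rfl⟩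
    have h1 := hx ⟨g * u * g⁻¹, hU'C hm⟩ (mem_subgroupOf.mpr hm)
    have h2 : (x : G) * (g * u * g⁻¹) * (x : G)⁻¹ ∈ (S : Subgroup G) := h1
    simpa [mul_assoc] using h2
  obtain ⟨t, ht, hEq⟩ := hD.klein_fusion hU hUS hxU
  refine ⟨t⁻¹ * ((x : G) * g), ?_, ?_⟩
  · rw [H39.mem_normalizer_iff_map_conj, ← H39.map_conj_map_conj, hEq, H39.map_conj_map_conj,
      inv_mul_cancel, H39.map_conj_one]
  · calc t⁻¹ * ((x : G) * g) * r * (t⁻¹ * ((x : G) * g))⁻¹
          = t⁻¹ * ((x : G) * (g * r * g⁻¹) * (x : G)⁻¹) * t := by group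
      _ = c ^ l := by rw [hg, hxz, mul_assoc, ← hD.z_central ht, inv_mul_cancel_left]

/-- Without subgroups of index two an element permutes `c ^ l`, `s`, `c ^ l * s` cyclically. -/
theorem exists_fuses (hD : H39.DGen (S : Subgroup G) l c s) (hno : ∀ H : Subgroup G, H.index ≠ 2) :
    ∃ g : G, g * c ^ l * g⁻¹ = s ∧ g * s * g⁻¹ = c ^ l * s := by
  obtain ⟨U, hU, hUS, hs0⟩ := hD.klein_exists 0
  rw [zpow_zero, one_mul] at hs0
  obtain ⟨i, hiU, hzU, hUm⟩ := hD.klein_char hU hUS
  have hzU' : c ^ l ∈ U := hzU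
  have hmem : ∀ g, g ∈ U → g = 1 ∨ g = c ^ l ∨ g = s ∨ g = c ^ l * s := by
    intro g hg
    have hs' := (hUm s).mp hs0
    have hsi : s = c ^ i * s ∨ s = c ^ l * (c ^ i * s) := by
      rcases hs' with h | h | h | h
      · exact absurd h (H39.ne_one_of_orderOf_eq_two hD.os)
      · exact absurd (h ▸ Subgroup.pow_mem _ (mem_zpowers c) l : s ∈ zpowers c) hD.out
      · exact Or.inl h
      · exact Or.inr h
    have hzz := H39.mul_self_of_orderOf_eq_two hD.z_order
    rcases (hUm g).mp hg with h | h | h | h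
    · exact Or.inl h
    · exact Or.inr (Or.inl h)
    · rcases hsi with e | e
      · exact Or.inr (Or.inr (Or.inl (h.trans e.symm)))
      · refine Or.inr (Or.inr (Or.inr (h.trans ?_)))
        conv_rhs => rw [e]
        rw [← mul_assoc, hzz, one_mul]
    · rcases hsi with e | e
      · exact Or.inr (Or.inr (Or.inr (h.trans (by rw [← e]))))
      · exact Or.inr (Or.inr (Or.inl (h.trans e.symm)))
  have hz := hD.z_order
  have hzz := H39.mul_self_of_orderOf_eq_two hz
  have hzs : orderOf (c ^ l * s) = 2 := by simpa using hD.orderOf_out (l : ℤ)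
  have hne : s ≠ c ^ l := fun e => hD.out (e ▸ Subgroup.pow_mem _ (mem_zpowers c) l)
  obtain ⟨h, hhN, hh⟩ := exists_map_reflection hD hno hU hUS hzU' hs0 hD.os
  obtain ⟨k, hkN, hk⟩ := exists_map_reflection hD hno hU hUS hzU' (mul_mem hzU' hs0) hzs
  have hz1 : c ^ l ≠ 1 := H39.ne_one_of_orderOf_eq_two hz
  have hs1 : s ≠ 1 := H39.ne_one_of_orderOf_eq_two hD.os
  have hhz := hmem _ ((mem_normalizer_iff.mp hhN _).mp hzU')
  have hkz := hmem _ ((mem_normalizer_iff.mp hkN _).mp hzU')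
  have hinj : ∀ w a b : G, w * a * w⁻¹ = w * b * w⁻¹ → a = b := fun w a b e =>
    mul_left_cancel (mul_right_cancel e)
  -- the image of the central involution under `h`
  rcases hhz with e | e | e | e
  · exact absurd (conj_eq_one_iff.mp e) hz1
  · exact absurd (hinj h _ _ (e.trans hh.symm)).symm hne
  · -- `h` interchanges the central involution and `s`; compose with `k`
    rcases hkz with e' | e' | e' | e'
    · exact absurd (conj_eq_one_iff.mp e') hz1
    · have := hinj k _ _ (e'.trans hk.symm)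
      exact absurd (mul_eq_left.mp this.symm) hs1
    · refine ⟨k, e', ?_⟩
      calc k * s * k⁻¹ = k * (c ^ l * (c ^ l * s)) * k⁻¹ := by rw [← mul_assoc (c ^ l), hzz, one_mul]
        _ = (k * c ^ l * k⁻¹) * (k * (c ^ l * s) * k⁻¹) := by group
        _ = c ^ l * s := by
          rw [e', hk]
          exact (hD.z_central hD.mem_s)
    · have hks : k * s * k⁻¹ = s := by
        calc k * s * k⁻¹ = k * (c ^ l * (c ^ l * s)) * k⁻¹ := by rw [← mul_assoc (c ^ l), hzz, one_mul]
          _ = (k * c ^ l * k⁻¹) * (k * (c ^ l * s) * k⁻¹) := by group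
          _ = s := by rw [e', hk, mul_assoc, hD.z_central hD.mem_s, ← mul_assoc, hzz, one_mul]
      refine ⟨k * h, ?_, ?_⟩
      · rw [show k * h * c ^ l * (k * h)⁻¹ = k * (h * c ^ l * h⁻¹) * k⁻¹ by group, e, hks]
      · rw [show k * h * s * (k * h)⁻¹ = k * (h * s * h⁻¹) * k⁻¹ by group, hh, e']
  · -- `h` is a cycle the other way round
    refine ⟨h⁻¹, ?_, ?_⟩
    · rw [← hh]; group
    · have h1 : h * (c ^ l * s) * h⁻¹ = s := by
        rw [show h * (c ^ l * s) * h⁻¹ = (h * c ^ l * h⁻¹) * (h * s * h⁻¹) by group, e, hh,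
          mul_assoc, hD.z_central hD.mem_s, ← mul_assoc, hzz, one_mul]
      conv_lhs => rw [← h1]
      group

end Dihedral

/-! ### The layer -/

variable {Y : Type u} [Group Y] [Finite Y]

/-- The layer centralises the odd core. -/
theorem layer_commute_oddCore {x w : Y} (hx : x ∈ Cfsg.layer Y) (hw : w ∈ Cfsg.oddCore Y) :
    Commute x w := by
  haveI : Group.IsSolvable ↥(Cfsg.oddCore Y) := S0205.result Cores.odd_card_oddCore
  exact Components.commute_of_commutator_eq_bot
    (Components.layer_commutator_solvable inferInstance (by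
      rw [Subgroup.normalizer_eq_top]; exact le_top)) hx hw

instance layer_isPerfect : Group.IsPerfect ↥(Cfsg.layer Y) :=
  ⟨Subgroup.map_injective (Cfsg.layer Y).subtype_injective (by
    rw [commutator_def, Subgroup.map_commutator, ← MonoidHom.range_eq_map, Subgroup.range_subtype,
      Components.layer_perfect])⟩

/-- The Sylow 2-subgroups of a nontrivial perfect group of this type are dihedral. -/
theorem exists_dGen_perfect {Z : Type u} [Group Z] [Finite Z] [Nontrivial Z] [Group.IsPerfect Z]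
    (h : H63.GW.SylowDType Z) :
    ∃ (T : Sylow 2 Z) (l : ℕ) (c s : Z), H39.DGen (T : Subgroup Z) l c s := by
  haveI : Fact (Nat.Prime 2) := ⟨Nat.prime_two⟩
  obtain ⟨T⟩ : Nonempty (Sylow 2 Z) := inferInstance
  rcases h T with hc | ⟨m, hm, ⟨e⟩⟩
  · exfalso
    haveI := hc
    obtain ⟨P, N, hN, hNP⟩ := H63.GW.hasNormalPComplement_of_cyclic T
    haveI := hN
    have hodd : Odd (Nat.card N) := Nat.not_even_iff_odd.mp fun he =>
      Fusion.not_dvd_card_of_isComplement' P hNP he.two_dvd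
    haveI : Group.IsSolvable N := S0205.result hodd
    haveI : Group.IsSolvable (Z ⧸ N) :=
      haveI := (Fusion.isPGroup_quotient_of_isComplement' P hNP).isNilpotent
      inferInstance
    exact Group.IsPerfect.not_isSolvable Z
      (solvable_of_ker_le_range N.subtype (QuotientGroup.mk' N) (by simp))
  · obtain ⟨l, c, s, -, -, hd⟩ := H39.exists_dGen (T : Subgroup Z) T.isPGroup' hm e
    exact ⟨T, l, c, s, hd⟩

theorem exists_dGen_layer (h : H63.GW.SylowDType Y) (hE : Cfsg.layer Y ≠ ⊥) :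
    ∃ (T : Sylow 2 ↥(Cfsg.layer Y)) (l : ℕ) (c s : ↥(Cfsg.layer Y)),
      H39.DGen (T : Subgroup ↥(Cfsg.layer Y)) l c s :=
  haveI : Nontrivial ↥(Cfsg.layer Y) := (Subgroup.nontrivial_iff_ne_bot _).mpr hE
  exists_dGen_perfect (h.subgroup (Cfsg.layer Y))

theorem not_index_two_perfect {Z : Type u} [Group Z] [Group.IsPerfect Z] (H : Subgroup Z) :
    H.index ≠ 2 := by
  intro hH
  haveI := normal_of_index_eq_two hH
  haveI : IsCyclic (Z ⧸ H) := isCyclic_of_prime_card (p := 2) hH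
  have hle : _root_.commutator Z ≤ H := by
    rw [Subgroup.Normal.quotient_commutative_iff_commutator_le.symm]
    exact ⟨⟨fun a b => (IsCyclic.isMulCommutative (α := Z ⧸ H)).is_comm.comm a b⟩⟩
  rw [Group.IsPerfect.commutator_eq_top, top_le_iff] at hle
  rw [hle, index_top] at hH
  exact absurd hH (by decide)

theorem not_index_two_layer (H : Subgroup ↥(Cfsg.layer Y)) : H.index ≠ 2 := not_index_two_perfect H

/-- In a group of this type without subgroups of index two, commuting involutions are fused cyclically. -/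
theorem exists_fuses_pair {G : Type u} [Group G] [Finite G] {S : Sylow 2 G} {l : ℕ} {c s : G}
    (hD : H39.DGen (S : Subgroup G) l c s) (hno : ∀ H : Subgroup G, H.index ≠ 2) {a b : G}
    (ha : orderOf a = 2) (hb : orderOf b = 2) (hne : a ≠ b) (hab : Commute a b) :
    ∃ g : G, GW.Fuses g a b := by
  haveI : Fact (Nat.Prime 2) := ⟨Nat.prime_two⟩
  obtain ⟨x, hx⟩ := isConj_iff.mp (hD.isConj_z_of_no_index_two hno ha)
  have hb' : x⁻¹ * b * x ∈ centralizer ({c ^ l} : Set G) := by
    rw [mem_centralizer_singleton_iff]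
    have := hab.eq
    rw [← hx] at this
    calc x⁻¹ * b * x * c ^ l = x⁻¹ * (b * (x * c ^ l * x⁻¹)) * x := by group
      _ = c ^ l * (x⁻¹ * b * x) := by rw [← this]; group
  have hb2 : orderOf (x⁻¹ * b * x) = 2 := by
    rw [← hb]; simpa using H39.orderOf_conj x⁻¹ b
  have hSC : (S : Subgroup G) ≤ centralizer ({c ^ l} : Set G) := fun _ h =>
    mem_centralizer_singleton_iff.mpr (hD.z_central h)
  obtain ⟨y, hy⟩ := H39.exists_conj_le_sylow
    (R := zpowers (⟨x⁻¹ * b * x, hb'⟩ : ↥(centralizer ({c ^ l} : Set G))))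
    (IsPGroup.of_card (p := 2) (n := 1) (by
      rw [Nat.card_zpowers, ← Subgroup.orderOf_coe, hb2, pow_one]))
    (S.subtype hSC)
  have hbS : (y : G) * (x⁻¹ * b * x) * (y : G)⁻¹ ∈ (S : Subgroup G) := hy _ (mem_zpowers _)
  have hyz : (y : G) * c ^ l * (y : G)⁻¹ = c ^ l := by
    rw [mem_centralizer_singleton_iff.mp y.2, mul_inv_cancel_right]
  have ha' : (x * (y : G)⁻¹) * c ^ l * (x * (y : G)⁻¹)⁻¹ = a := by
    calc x * (y : G)⁻¹ * c ^ l * (x * (y : G)⁻¹)⁻¹
          = x * ((y : G)⁻¹ * c ^ l * (y : G)) * x⁻¹ := by group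
      _ = x * ((y : G)⁻¹ * ((y : G) * c ^ l * (y : G)⁻¹) * (y : G)) * x⁻¹ := by rw [hyz]
      _ = a := by rw [← hx]; group
  set x' := x * (y : G)⁻¹ with hx'
  set r := (y : G) * (x⁻¹ * b * x) * (y : G)⁻¹ with hr
  have hrb : x' * r * x'⁻¹ = b := by rw [hx', hr]; group
  have hr2 : orderOf r = 2 := by rw [hr, H39.orderOf_conj, hb2]
  have hrc : r ∉ zpowers c := by
    intro hm
    rcases hD.sq_one_cases hm (H39.mul_self_of_orderOf_eq_two hr2) with e | e
    · exact H39.ne_one_of_orderOf_eq_two hr2 e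
    · exact hne (by rw [← ha', ← hrb, e])
  obtain ⟨i, hi⟩ := hD.out_form hbS hrc
  have hD' : H39.DGen (S : Subgroup G) l c (c ^ i * s) :=
    { lpos := hD.lpos
      mem_c := hD.mem_c
      mem_s := mul_mem (hD.zpow_mem i) hD.mem_s
      oc := hD.oc
      os := hD.orderOf_out i
      inv := by simpa using hD.out_conj i 1
      out := hD.out_not_mem i
      cases := fun g hg => by
        by_cases hgc : g ∈ zpowers c
        · exact Or.inl hgc
        · refine Or.inr ((hD.mul_out hg (mul_mem (hD.zpow_mem i) hD.mem_s)).mpr ?_)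
          exact iff_of_false hgc (hD.out_not_mem i) }
  obtain ⟨g, h1, h2⟩ := exists_fuses hD' hno
  refine ⟨x' * g * x'⁻¹, ?_, ?_⟩
  · rw [← ha', ← hrb, hi, ← h1]; group
  · rw [← ha', ← hrb, hi]
    rw [show x' * g * x'⁻¹ * (x' * (c ^ i * s) * x'⁻¹) * (x' * g * x'⁻¹)⁻¹ =
      x' * (g * (c ^ i * s) * g⁻¹) * x'⁻¹ by group, h2]
    group

/-- Two commuting involutions and their product: one of the three lies in the layer. -/
theorem layer_meets_four (h : H63.GW.SylowDType Y) (hE : Cfsg.layer Y ≠ ⊥) {a b : Y}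
    (ha : orderOf a = 2) (hb : orderOf b = 2) (hne : a ≠ b) (hab : Commute a b) :
    a ∈ Cfsg.layer Y ∨ b ∈ Cfsg.layer Y ∨ a * b ∈ Cfsg.layer Y := by
  haveI : Fact (Nat.Prime 2) := ⟨Nat.prime_two⟩
  obtain ⟨T, lT, cT, sT, hDT⟩ := exists_dGen_layer h hE
  obtain ⟨V, hV, -, -⟩ := hDT.klein_exists 0
  have hVY : IsKleinFour ↥(V.map (Cfsg.layer Y).subtype) := by
    have ev := equivMapOfInjective V _ (Cfsg.layer Y).subtype_injective
    exact ⟨(Nat.card_congr ev.symm.toEquiv).trans hV.card_four,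
      (Monoid.exponent_eq_of_mulEquiv ev.symm).trans hV.exponent_two⟩
  obtain ⟨W, hW, hWm⟩ := H39.klein_mk ha hb hne hab.eq
  obtain ⟨P, hP⟩ := (IsPGroup.of_card (p := 2) (n := 2) hW.card_four).exists_le_sylow
  obtain ⟨x, hx⟩ := H39.exists_conj_le_sylow
    (IsPGroup.of_card (p := 2) (n := 2) hVY.card_four) P
  rcases h P with hc | ⟨m, hm, ⟨e⟩⟩
  · exfalso
    haveI := hc
    haveI := hW
    exact IsKleinFour.not_isCyclic (G := W)
      (isCyclic_of_injective (inclusion hP) (inclusion_injective hP))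
  obtain ⟨l, c, s, -, -, hD⟩ := H39.exists_dGen (P : Subgroup Y) P.isPGroup' hm e
  set V' : Subgroup Y := (V.map (Cfsg.layer Y).subtype).map (MulAut.conj x).toMonoidHom with hV'
  have hV'P : V' ≤ P := by
    rintro _ ⟨v, hv, rfl⟩
    exact hx v hv
  have hV'K : IsKleinFour ↥V' := H39.DGen.klein_fusion.klein_map hVY x
  obtain ⟨i, hi, -, -⟩ := hD.klein_char hV'K hV'P
  have hiE : c ^ i * s ∈ Cfsg.layer Y := by
    obtain ⟨v, hv, hvx⟩ := hi
    rw [← hvx]
    obtain ⟨v', -, rfl⟩ := hv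
    exact (Components.layer_normal).conj_mem _ v'.2 x
  exact mem_or_mul_mem hD (by rw [Subgroup.normalizer_eq_top]; exact le_top) hiE
    (hP ((hWm a).mpr (Or.inr (Or.inl rfl)))) (hP ((hWm b).mpr (Or.inr (Or.inr (Or.inl rfl)))))

/-- Every involution of the layer is cyclically permuted with two others in the layer. -/
theorem layer_fused (h : H63.GW.SylowDType Y) (hE : Cfsg.layer Y ≠ ⊥) {a : Y}
    (ha : a ∈ Cfsg.layer Y) (ha2 : orderOf a = 2) :
    ∃ g ∈ Cfsg.layer Y, ∃ b : Y, orderOf b = 2 ∧ b ≠ a ∧ Commute a b ∧ GW.Fuses g a b := by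
  obtain ⟨T, l, c, s, hD⟩ := exists_dGen_layer h hE
  obtain ⟨g, hg1, hg2⟩ := exists_fuses hD not_index_two_layer
  obtain ⟨x, hx⟩ := isConj_iff.mp (hD.isConj_z_of_no_index_two not_index_two_layer
    (v := (⟨a, ha⟩ : ↥(Cfsg.layer Y))) (by rw [← ha2, ← Subgroup.orderOf_coe]))
  have hxa : (x : Y) * ((c ^ l : ↥(Cfsg.layer Y)) : Y) * (x : Y)⁻¹ = a := congrArg Subtype.val hx
  refine ⟨(x * g * x⁻¹ : ↥(Cfsg.layer Y)), SetLike.coe_mem _, ((x * s * x⁻¹ : ↥(Cfsg.layer Y)) : Y),
    ?_, ?_, ?_, ?_, ?_⟩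
  · rw [Subgroup.orderOf_coe, H39.orderOf_conj, hD.os]
  · intro e
    have h1 : (x * s * x⁻¹ : ↥(Cfsg.layer Y)) = x * c ^ l * x⁻¹ := by
      apply Subtype.ext
      rw [e]
      exact hxa.symm
    exact hD.out (mul_left_cancel (mul_right_cancel h1) ▸ Subgroup.pow_mem _ (mem_zpowers c) l)
  · have h1 : Commute (c ^ l) s := (hD.z_central hD.mem_s).symm
    have h2 := (h1.map (MulAut.conj x).toMonoidHom).map (Cfsg.layer Y).subtype
    rw [← hxa]
    exact h2
  · have h1 : x * g * x⁻¹ * (x * c ^ l * x⁻¹) * (x * g * x⁻¹)⁻¹ = x * s * x⁻¹ := by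
      rw [← hg1]; group
    rw [← hxa]
    exact congrArg Subtype.val h1
  · have h1 : x * g * x⁻¹ * (x * s * x⁻¹) * (x * g * x⁻¹)⁻¹ = x * c ^ l * x⁻¹ * (x * s * x⁻¹) := by
      rw [show x * g * x⁻¹ * (x * s * x⁻¹) * (x * g * x⁻¹)⁻¹ = x * (g * s * g⁻¹) * x⁻¹ by group, hg2]
      group
    have h2 := congrArg Subtype.val h1
    rw [← hxa]
    exact h2

/-! ### In the configuration -/

variable {G : Type u} [Group G] [Finite G]

/-- A generated dihedral Sylow subgroup gives the Sylow type. -/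
theorem sylowDType_of_dGen {S : Sylow 2 G} {l : ℕ} {c s : G} (hD : H39.DGen (S : Subgroup G) l c s) :
    H63.GW.SylowDType G := by
  have hcs : orderOf (c * s) = 2 := by simpa using hD.orderOf_out 1
  have hne : c * s ≠ s := fun e => H39.ne_one_of_orderOf_eq_two hD.os
    (absurd (mul_eq_right.mp e) fun h => by
      have := hD.oc; rw [h, orderOf_one] at this; have := hD.lpos; omega)
  obtain ⟨e⟩ := S0206.result (c * s) s hcs hD.os hne
  have hcl : closure ({c * s, s} : Set G) = (S : Subgroup G) := by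
    refine le_antisymm ((closure_le _).mpr ?_) fun g hg => ?_
    · rintro x (rfl | rfl)
      exacts [mul_mem hD.mem_c hD.mem_s, hD.mem_s]
    · have hs : s ∈ closure ({c * s, s} : Set G) := subset_closure (Or.inr rfl)
      have hc : c ∈ closure ({c * s, s} : Set G) := by
        simpa [mul_assoc] using mul_mem (subset_closure (Or.inl rfl) : c * s ∈ _) (inv_mem hs)
      rcases hD.cases g hg with h | h
      · exact zpowers_le.mpr hc h
      · simpa [mul_assoc] using mul_mem (zpowers_le.mpr hc h) (inv_mem hs)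
  refine H63.GW.sylowDType_of_dihedral S (n := orderOf (c * s * s)) ?_
    ⟨(MulEquiv.subgroupCongr hcl.symm).trans e⟩
  rw [mul_assoc, H39.mul_self_of_orderOf_eq_two hD.os, mul_one, hD.oc]
  have := hD.lpos
  omega

theorem layerIn_ne_bot_iff {X : Subgroup G} : Components.layerIn X ≠ ⊥ ↔ Cfsg.layer ↥X ≠ ⊥ :=
  not_congr (Subgroup.map_eq_bot_iff_of_injective _ X.subtype_injective)

theorem commute_core {X : Subgroup G} : ∀ x ∈ Components.layerIn X, ∀ w ∈ GW.coreIn X, Commute x w := by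
  rintro _ ⟨x, hx, rfl⟩ _ ⟨w, hw, rfl⟩
  exact (layer_commute_oddCore hx hw).map X.subtype

theorem meets_four {S : Sylow 2 G} {l : ℕ} {c s : G} (hD : H39.DGen (S : Subgroup G) l c s)
    {X : Subgroup G}
    (hE : Components.layerIn X ≠ ⊥) (a b : G) (ha : a ∈ X) (hb : b ∈ X) (ha2 : orderOf a = 2)
    (hb2 : orderOf b = 2) (hne : a ≠ b) (hab : Commute a b) :
    a ∈ Components.layerIn X ∨ b ∈ Components.layerIn X ∨ a * b ∈ Components.layerIn X := by
  have hmem : ∀ y : ↥X, y ∈ Cfsg.layer ↥X → (y : G) ∈ Components.layerIn X := fun y hy => ⟨y, hy, rfl⟩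
  rcases layer_meets_four ((sylowDType_of_dGen hD).subgroup X) (layerIn_ne_bot_iff.mp hE)
      (a := ⟨a, ha⟩) (b := ⟨b, hb⟩) (by rw [← ha2, ← Subgroup.orderOf_coe])
      (by rw [← hb2, ← Subgroup.orderOf_coe]) (fun e => hne (congrArg Subtype.val e)) (Subtype.ext hab.eq)
    with h | h | h
  · exact Or.inl (hmem _ h)
  · exact Or.inr (Or.inl (hmem _ h))
  · exact Or.inr (Or.inr (hmem _ h))

theorem fused_inner {S : Sylow 2 G} {l : ℕ} {c s : G} (hD : H39.DGen (S : Subgroup G) l c s)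
    {X : Subgroup G}
    (hE : Components.layerIn X ≠ ⊥) (a : G) (ha : a ∈ Components.layerIn X) (ha2 : orderOf a = 2) :
    ∃ g ∈ Components.layerIn X, ∃ b : G, orderOf b = 2 ∧ b ≠ a ∧ Commute a b ∧ GW.Fuses g a b := by
  obtain ⟨a', ha', rfl⟩ := ha
  obtain ⟨g, hg, b, hb, hne, hc, h1, h2⟩ :=
    layer_fused ((sylowDType_of_dGen hD).subgroup X) (layerIn_ne_bot_iff.mp hE) ha'
      (by rw [← ha2]; exact (Subgroup.orderOf_coe a').symm)
  exact ⟨g, ⟨g, hg, rfl⟩, b, by rw [Subgroup.orderOf_coe, hb], fun e => hne (Subtype.ext e),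
    hc.map X.subtype, congrArg Subtype.val h1, congrArg Subtype.val h2⟩

end Cfsg.Agent.H36.GW
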