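import Cfsg.Agent.H36.GW.Layer
import Cfsg.Agent.H4.GW.Reduction

/-!
# GW programme, P1: the shape of `X / O(X)` for a subgroup with a layer
-/

set_option autoImplicit false
set_option linter.unusedSectionVars false

namespace Cfsg.Agent.H36.GW

open Subgroup Cfsg.Agent

universe u

variable {Y : Type u} [Group Y] [Finite Y]

/-- The image of the layer modulo the odd core. -/
noncomputable def layerBar (Y : Type u) [Group Y] : Subgroup (Y ⧸ Cfsg.oddCore Y) :=
  (Cfsg.layer Y).map (QuotientGroup.mk' (Cfsg.oddCore Y))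

instance layerBar_normal : (layerBar Y).Normal :=
  (Components.layer_normal (G := Y)).map _ (QuotientGroup.mk'_surjective _)

instance layerBar_isPerfect : Group.IsPerfect ↥(layerBar Y) :=
  ⟨Subgroup.map_injective (layerBar Y).subtype_injective (by
    rw [commutator_def, Subgroup.map_commutator, ← MonoidHom.range_eq_map, Subgroup.range_subtype,
      layerBar, ← Subgroup.map_commutator, Components.layer_perfect])⟩

theorem layerBar_ne_bot (hE : Cfsg.layer Y ≠ ⊥) : layerBar Y ≠ ⊥ := by
  intro h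
  rw [layerBar, Subgroup.map_eq_bot_iff, QuotientGroup.ker_mk'] at h
  haveI : Group.IsSolvable ↥(Cfsg.layer Y) :=
    haveI : Group.IsSolvable ↥(Cfsg.oddCore Y) := S0205.result Cores.odd_card_oddCore
    solvable_of_solvable_injective (f := inclusion h) (inclusion_injective h)
  haveI : Nontrivial ↥(Cfsg.layer Y) := (Subgroup.nontrivial_iff_ne_bot _).mpr hE
  exact Group.IsPerfect.not_isSolvable ↥(Cfsg.layer Y) inferInstance

/-- **The shape modulo the odd core.** -/
theorem quotient_shape (h : H63.GW.SylowDType Y) (hE : Cfsg.layer Y ≠ ⊥)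
    (hP : H63.GW.PerfectHyp (Y ⧸ Cfsg.oddCore Y)) :
    H63.GW.SimpleShape ↥(layerBar Y) ∧
      centralizer (layerBar Y : Set (Y ⧸ Cfsg.oddCore Y)) = ⊥ := by
  haveI : Fact (Nat.Prime 2) := ⟨Nat.prime_two⟩
  have hD : H63.GW.SylowDType (Y ⧸ Cfsg.oddCore Y) := h.quotient _ Cores.odd_card_oddCore
  have hO : Cfsg.oddCore (Y ⧸ Cfsg.oddCore Y) = ⊥ := Cores.pPrimeCore_quotient_pPrimeCore
  have hne := layerBar_ne_bot hE
  haveI : Nontrivial ↥(layerBar Y) := (Subgroup.nontrivial_iff_ne_bot _).mpr hne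
  have hns : ¬ Group.IsSolvable (Y ⧸ Cfsg.oddCore Y) := fun hs =>
    haveI := hs
    Group.IsPerfect.not_isSolvable ↥(layerBar Y)
      (solvable_of_solvable_injective (f := (layerBar Y).subtype) (Subtype.coe_injective))
  obtain ⟨L, hLn, hL, hC⟩ := H63.GW.nonsolvable_shape hD hO hP hns
  haveI := hLn
  have hLsimp := hL.isSimpleGroup
  have hle : L ≤ layerBar Y := by
    rcases hLsimp.eq_bot_or_eq_top_of_normal ((layerBar Y).subgroupOf L) inferInstance with e | e
    · exfalso
      rw [subgroupOf_eq_bot] at e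
      apply hne
      rw [eq_bot_iff, ← hC]
      intro x hx
      rw [mem_centralizer_iff]
      intro y hy
      exact commutatorElement_eq_one_iff_commute.mp ((Subgroup.mem_bot).mp (by
        rw [← disjoint_iff.mp e.symm]
        exact Subgroup.commutator_le_inf L (layerBar Y) (commutator_mem_commutator hy hx)))
    · exact subgroupOf_eq_top.mp e
  have hLL : H63.GW.SimpleShape ↥(L.subgroupOf (layerBar Y)) := hL.congr (subgroupOfEquivOfLe hle).symm
  have htop : L.subgroupOf (layerBar Y) = ⊤ := H4.GW.SimpleShape.eq_top _ hLL (by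
    rw [eq_bot_iff]
    intro x hx
    have : (x : Y ⧸ Cfsg.oddCore Y) ∈ centralizer (L : Set (Y ⧸ Cfsg.oddCore Y)) := by
      rw [mem_centralizer_iff]
      intro y hy
      exact congrArg Subtype.val (mem_centralizer_iff.mp hx ⟨y, hle hy⟩ (mem_subgroupOf.mpr hy))
    rw [hC, mem_bot] at this
    exact mem_bot.mpr (Subtype.ext this))
  have he : L = layerBar Y := le_antisymm hle (subgroupOf_eq_top.mp htop)
  subst he
  exact ⟨hL, hC⟩

/-- The centraliser of an involution covers that of its image. -/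
theorem exists_commute_lift {a : Y} (ha : a * a = 1) {ybar : Y ⧸ Cfsg.oddCore Y}
    (h : Commute ybar (a : Y ⧸ Cfsg.oddCore Y)) :
    ∃ y : Y, (y : Y ⧸ Cfsg.oddCore Y) = ybar ∧ Commute y a := by
  obtain ⟨y, rfl⟩ := QuotientGroup.mk_surjective ybar
  set w := a * (y * a * y⁻¹) with hw
  have hainv : a⁻¹ = a := inv_eq_of_mul_eq_one_right ha
  have hwW : w ∈ Cfsg.oddCore Y := by
    rw [← QuotientGroup.eq_one_iff, hw, QuotientGroup.mk_mul, QuotientGroup.mk_mul, QuotientGroup.mk_mul,
      QuotientGroup.mk_inv, h.eq, mul_assoc (a : Y ⧸ Cfsg.oddCore Y), mul_inv_cancel, mul_one,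
      ← QuotientGroup.mk_mul, ha, QuotientGroup.mk_one]
  have hinv : a * w * a⁻¹ = w⁻¹ := by
    rw [hw, hainv]
    calc a * (a * (y * a * y⁻¹)) * a = (a * a) * (y * a * y⁻¹) * a := by group
      _ = (a * (y * a * y⁻¹))⁻¹ := by rw [ha, one_mul, mul_inv_rev, mul_inv_rev, mul_inv_rev, inv_inv, hainv]; group
  obtain ⟨k, hk⟩ := Odd.of_dvd_nat (Cores.odd_card_oddCore (G := Y))
    (Subgroup.orderOf_dvd_natCard _ hwW)
  set v := w ^ (k + 1) with hv
  have hvv : v * v = w := by
    rw [hv, ← pow_add, show k + 1 + (k + 1) = orderOf w + 1 by omega, pow_succ, pow_orderOf_eq_one, one_mul]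
  have hvinv : a * v * a⁻¹ = v⁻¹ := by rw [hv, ← conj_pow, hinv, inv_pow]
  refine ⟨v * y, ?_, ?_⟩
  · rw [QuotientGroup.mk_mul, (QuotientGroup.eq_one_iff v).mpr (Subgroup.pow_mem _ hwW _), one_mul]
  · have h1 : y * a * y⁻¹ = a * w := by rw [hw, ← mul_assoc a a, ha, one_mul]
    have h2 : v * (a * w) * v⁻¹ = a := by
      have h3 : v * a = a * v⁻¹ := by
        rw [← hvinv, hainv]
        calc v * a = (a * a) * v * a := by rw [ha, one_mul]
          _ = a * (a * v * a) := by group
      calc v * (a * w) * v⁻¹ = (v * a) * (w * v⁻¹) := by group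
        _ = a := by rw [h3, ← hvv]; group
    rw [← h1] at h2
    show v * y * a = a * (v * y)
    calc v * y * a = v * (y * a * y⁻¹) * v⁻¹ * (v * y) := by group
      _ = a * (v * y) := by rw [h2]

end Cfsg.Agent.H36.GW
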