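import Cfsg.Agent.H36.GW.TorusQuot
import Cfsg.Agent.H36.GW.Shape
import Cfsg.Agent.H70.GW.Cover

/-!
# GW programme, P1: `LayerStep`
-/

set_option autoImplicit false
set_option linter.unusedSectionVars false

namespace Cfsg.Agent.H36.GW

open Subgroup Cfsg.Agent

universe u

variable {Y : Type u} [Group Y] [Finite Y]

theorem orderOf_quotient {a : Y} (ha : orderOf a = 2) : orderOf (a : Y ⧸ Cfsg.oddCore Y) = 2 := by
  refine orderOf_eq_prime ?_ ?_
  · rw [← QuotientGroup.mk_pow, pow_two, H39.mul_self_of_orderOf_eq_two ha, QuotientGroup.mk_one]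
  · rw [Ne, QuotientGroup.eq_one_iff]
    intro h
    have := (Cores.odd_card_oddCore (G := Y)).of_dvd_nat (Subgroup.orderOf_dvd_natCard _ h)
    rw [ha] at this
    exact absurd this (by decide)

theorem layer_torus (h : H63.GW.SylowDType Y) (hE : Cfsg.layer Y ≠ ⊥)
    (hP : H63.GW.PerfectHyp (Y ⧸ Cfsg.oddCore Y)) {a : Y} (ha : orderOf a = 2) {K : Subgroup Y}
    (hKo : Odd (Nat.card K)) (hKn : Group.IsNilpotent ↥K)
    (hnorm : ∀ g : Y, Commute g a → g ∈ normalizer (K : Set Y)) {k : Y} (hk : k ∈ K) :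
    k * a * k⁻¹ * a⁻¹ ∈ Cfsg.oddCore Y := by
  obtain ⟨hL, hC⟩ := quotient_shape h hE hP
  set π := QuotientGroup.mk' (Cfsg.oddCore Y) with hπ
  haveI := hKn
  haveI : Group.IsNilpotent ↥(K.map π) :=
    nilpotent_of_surjective (f := π.subgroupMap K) (π.subgroupMap_surjective K)
  have hodd : Odd (Nat.card ↥(K.map π)) :=
    hKo.of_dvd_nat (Subgroup.card_dvd_of_surjective (π.subgroupMap K) (π.subgroupMap_surjective K))
  have hc : Commute (π k) (π a) := by
    refine torus_of_shape (h.quotient _ Cores.odd_card_oddCore) hL hC (orderOf_quotient ha) hodd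
      inferInstance (fun y hy => ?_) (mem_map_of_mem π hk)
    obtain ⟨g, rfl, hg⟩ := exists_commute_lift (H39.mul_self_of_orderOf_eq_two ha) hy
    exact Subgroup.le_normalizer_map π (mem_map_of_mem π (hnorm g hg))
  rw [← QuotientGroup.eq_one_iff]
  show π (k * a * k⁻¹ * a⁻¹) = 1
  rw [map_mul, map_mul, map_mul, map_inv, map_inv, hc.eq, mul_inv_cancel_right, mul_inv_cancel]

theorem layer_fuse_fixed (h : H63.GW.SylowDType Y) (hE : Cfsg.layer Y ≠ ⊥)
    (hP : H63.GW.PerfectHyp (Y ⧸ Cfsg.oddCore Y)) {a b : Y} (ha : a ∈ Cfsg.layer Y) (hb : b ∈ Cfsg.layer Y)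
    (ha2 : orderOf a = 2) (hb2 : orderOf b = 2) (hne : a ≠ b) (hab : Commute a b) {A : Subgroup Y}
    (hA : Odd (Nat.card A)) (hcent : ∀ x ∈ A, Commute x a ∧ Commute x b) :
    ∃ g ∈ Cfsg.layer Y, GW.Fuses g a b ∧ ∀ x ∈ A, g * x * g⁻¹ * x⁻¹ ∈ Cfsg.oddCore Y := by
  obtain ⟨hL, hC⟩ := quotient_shape h hE hP
  have haa := H39.mul_self_of_orderOf_eq_two ha2
  have hbb := H39.mul_self_of_orderOf_eq_two hb2
  have hab2 : a * b * (a * b) = 1 := by
    rw [mul_assoc, ← mul_assoc b, ← hab.eq, mul_assoc a b b, hbb, mul_one, haa]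
  -- involutions in the layer congruent modulo the core are equal
  have hinj : ∀ p q : Y, p ∈ Cfsg.layer Y → q ∈ Cfsg.layer Y → p * p = 1 → q * q = 1 →
      (p : Y ⧸ Cfsg.oddCore Y) = q → p = q := by
    intro p q hp hq hp2 hq2 e
    have hw : q⁻¹ * p ∈ Cfsg.oddCore Y := QuotientGroup.eq.mp e.symm
    have hcw : Commute q (q⁻¹ * p) := layer_commute_oddCore hq hw
    have hsq : (q⁻¹ * p) * (q⁻¹ * p) = 1 := by
      have h1 : (q * (q⁻¹ * p)) * (q * (q⁻¹ * p)) = 1 := by rwa [mul_inv_cancel_left]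
      rwa [hcw.symm.mul_mul_mul_comm q (q⁻¹ * p), hq2, one_mul] at h1
    have h1 : q⁻¹ * p = 1 := orderOf_eq_one_iff.mp (Nat.eq_one_of_dvd_coprimes
      (Nat.coprime_two_left.mpr ((Cores.odd_card_oddCore (G := Y)).of_dvd_nat
        (Subgroup.orderOf_dvd_natCard _ hw)))
      (orderOf_dvd_of_pow_eq_one (by rw [pow_two]; exact hsq)) dvd_rfl)
    exact (inv_mul_eq_one.mp h1).symm
  obtain ⟨g', hg', h1, h2, h3⟩ := fuse_of_shape (h.quotient _ Cores.odd_card_oddCore) hL hC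
    (mem_map_of_mem (QuotientGroup.mk' _) ha) (mem_map_of_mem (QuotientGroup.mk' _) hb)
    (orderOf_quotient ha2) (orderOf_quotient hb2) (fun e => hne (hinj a b ha hb haa hbb e))
    (hab.map (QuotientGroup.mk' (Cfsg.oddCore Y)))
  obtain ⟨g, hg, rfl⟩ := hg'
  have hconj : ∀ p : Y, p ∈ Cfsg.layer Y → g * p * g⁻¹ ∈ Cfsg.layer Y := fun p hp =>
    (Components.layer_normal (G := Y)).conj_mem p hp g
  have hconj2 : ∀ p : Y, p * p = 1 → g * p * g⁻¹ * (g * p * g⁻¹) = 1 := fun p hp => by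
    rw [show g * p * g⁻¹ * (g * p * g⁻¹) = g * (p * p) * g⁻¹ by group, hp, mul_one, mul_inv_cancel]
  refine ⟨g, hg, ⟨hinj _ _ (hconj a ha) hb (hconj2 a haa) hbb h1,
    hinj _ _ (hconj b hb) (mul_mem ha hb) (hconj2 b hbb) hab2 h2⟩, fun x hx => ?_⟩
  have hc := h3 (x : Y ⧸ Cfsg.oddCore Y) ((hcent x hx).1.map (QuotientGroup.mk' _))
    ((hcent x hx).2.map (QuotientGroup.mk' _))
    ((hA.of_dvd_nat (Subgroup.orderOf_dvd_natCard A hx)).of_dvd_nat
      (orderOf_map_dvd (QuotientGroup.mk' (Cfsg.oddCore Y)) x))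
  rw [← QuotientGroup.eq_one_iff]
  show QuotientGroup.mk' (Cfsg.oddCore Y) (g * x * g⁻¹ * x⁻¹) = 1
  rw [map_mul, map_mul, map_mul, map_inv, map_inv]
  exact mul_inv_eq_one.mpr (mul_inv_eq_iff_eq_mul.mpr hc.eq)

/-- **The layer step of Gorenstein-Walter.** -/
theorem layerStep {G : Type u} [Group G] [Finite G] : GW.LayerStep (G := G) := by
  intro S l c s hcfg X hX hE
  have hD := hcfg.gen
  have hY := (sylowDType_of_dGen hD).subgroup X
  have hP : H63.GW.PerfectHyp (↥X ⧸ Cfsg.oddCore ↥X) := by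
    refine hcfg.small _ ?_ (hY.quotient _ Cores.odd_card_oddCore)
    exact (Nat.le_of_dvd Nat.card_pos (Subgroup.card_quotient_dvd_card _)).trans_lt
      (H4.GW.card_lt_of_ne_top hX)
  have hE' := layerIn_ne_bot_iff.mp hE
  refine ⟨commute_core, fun a b => meets_four hD hE a b, fused_inner hD hE, ?_, ?_, H70.GW.cover hD hP hE⟩
  · intro a ha ha2 K hKX hKo hKn hnorm k hk
    haveI := hKn
    have h' := layer_torus hY hE' hP (a := ⟨a, ha⟩) (by rw [← Subgroup.orderOf_coe]; exact ha2)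
      (K := K.subgroupOf X) (by rwa [Nat.card_congr (subgroupOfEquivOfLe hKX).toEquiv])
      (nilpotent_of_mulEquiv (subgroupOfEquivOfLe hKX).symm) (fun g hg => by
        have hg' := hnorm g g.2 (congrArg Subtype.val hg.eq)
        rw [mem_normalizer_iff] at hg' ⊢
        intro w
        simpa [mem_subgroupOf] using hg' (w : G))
      (k := ⟨k, hKX hk⟩) (mem_subgroupOf.mpr hk)
    exact ⟨_, h', rfl⟩
  · intro a b ha hb ha2 hb2 hne hab A hAX hAo hcent
    obtain ⟨a', ha', rfl⟩ := ha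
    obtain ⟨b', hb', rfl⟩ := hb
    obtain ⟨g, hg, ⟨h1, h2⟩, h3⟩ := layer_fuse_fixed hY hE' hP ha' hb'
      (by rw [← Subgroup.orderOf_coe]; exact ha2) (by rw [← Subgroup.orderOf_coe]; exact hb2)
      (fun e => hne (congrArg _ e)) (Subtype.ext hab.eq) (A := A.subgroupOf X)
      (by rwa [Nat.card_congr (subgroupOfEquivOfLe hAX).toEquiv])
      (fun x hx => ⟨Subtype.ext (hcent x (mem_subgroupOf.mp hx)).1.eq,
        Subtype.ext (hcent x (mem_subgroupOf.mp hx)).2.eq⟩)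
    exact ⟨(g : G), ⟨g, hg, rfl⟩, ⟨congrArg Subtype.val h1, congrArg Subtype.val h2⟩,
      fun x hx => ⟨_, h3 ⟨x, hAX hx⟩ (mem_subgroupOf.mpr hx), rfl⟩⟩

end Cfsg.Agent.H36.GW
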