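import Cfsg.Agent.H36.GW.Linear

/-!
# GW programme, P1: four groups in `PGL(2,q)`
-/

set_option autoImplicit false
set_option linter.unusedSectionVars false

namespace Cfsg.Agent.H36.GW

open Subgroup Cfsg.Agent Cfsg.Agent.H4.GW Cfsg.Agent.H63.GW
open Cfsg.Agent.H56 (PSLn SLn toP)
open Cfsg.Agent.H5.EvenCyclic (linAut)

universe u

variable {F : Type} [Field F] [Fintype F]

local notation "M₂" => Matrix (Fin 2) (Fin 2) F

variable {Y : Type u} [Group Y] [Finite Y] {K : Subgroup Y} [K.Normal] (e : ↥K ≃* PSLn 2 F)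
variable (h : SylowDType Y) (hodd : Odd (Fintype.card F)) (hC : centralizer (K : Set Y) = ⊥)
include e h hodd hC

/-- A four group of `PGL(2,q)` is its own centraliser. -/
theorem psl_centralizer_pair {a b y : Y} (ha : a * a = 1) (ha1 : a ≠ 1) (hb : b * b = 1) (hb1 : b ≠ 1)
    (hne : a ≠ b) (hab : Commute a b) (hy : y ∈ (fieldPartHom e).ker) (hya : Commute y a)
    (hyb : Commute y b) : y = 1 ∨ y = a ∨ y = b ∨ y = a * b := by
  have hinj := actHom_injective hC e
  have h2 := two_ne hodd
  obtain ⟨A, hA, hAns, hAt⟩ := exists_rep_invol e h hodd hC ha ha1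
  obtain ⟨B, hB, hBns, hBt⟩ := exists_rep_invol e h hodd hC hb hb1
  obtain ⟨W, hW⟩ := exists_lin e hy
  have hmulA : (A : M₂) * A = (-(A : M₂).det) • (1 : M₂) := by
    rw [Mat.mul_self, hAt, zero_smul, zero_sub, neg_smul]
  have hunit : ∀ X : GL (Fin 2) F, IsUnit (X : M₂).det := fun X =>
    (Matrix.isUnit_iff_isUnit_det _).mp X.isUnit
  have hlin : ∀ (p q : Y) (P Q : GL (Fin 2) F), actHom K e p = linAut P → actHom K e q = linAut Q →
      Commute p q → ∃ z : F, (z = 1 ∨ z = -1) ∧ (P : M₂) * Q = z • ((Q : M₂) * P) := by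
    intro p q P Q hP hQ hpq
    obtain ⟨c, -, hc⟩ := linAut_eq_iff.mp (show linAut (P * Q) = linAut (Q * P) by
      rw [map_mul, map_mul, ← hP, ← hQ, ← map_mul, ← map_mul, hpq.eq])
    rw [Units.val_mul, Units.val_mul] at hc
    exact ⟨c, (Mat.twist_cases (hunit P) (hunit Q) hc).imp id And.left, hc⟩
  have hanti : (A : M₂) * B = -((B : M₂) * A) := by
    obtain ⟨z, hz, e1⟩ := hlin a b A B hA hB hab
    rcases hz with rfl | rfl
    · exfalso
      rw [one_smul] at e1
      obtain ⟨u, v, huv⟩ := Mat.exists_comb hAns e1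
      have hu : u = 0 := by
        have := congrArg Matrix.trace huv
        rw [hBt, Matrix.trace_add, Matrix.trace_smul, Matrix.trace_smul, hAt, smul_zero, add_zero,
          Matrix.trace_one, Fintype.card_fin, smul_eq_mul] at this
        push_cast at this
        exact (mul_eq_zero.mp this.symm).resolve_right h2
      rw [hu, zero_smul, zero_add] at huv
      refine hne (hinj ?_)
      rw [hA, hB]
      exact (linAut_eq_iff.mpr ⟨v, fun h0 => B.isUnit.ne_zero (by rw [huv, h0, zero_smul]), huv⟩).symm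
    · rw [neg_one_smul] at e1; exact e1
  -- an element commuting exactly with both is trivial
  have hexact : ∀ (w : Y) (P : GL (Fin 2) F), actHom K e w = linAut P → Commute (A : M₂) (P : M₂) →
      Commute (B : M₂) (P : M₂) → w = 1 := by
    intro w P hP hAP hBP
    obtain ⟨u, v, huv⟩ := Mat.exists_comb hAns hAP
    have hv : v = 0 := by
      have e1 := hBP.eq
      rw [huv, mul_add, add_mul, mul_smul_comm, mul_one, smul_mul_assoc, one_mul, mul_smul_comm,
        smul_mul_assoc, add_right_inj, hanti, smul_neg, eq_neg_iff_add_eq_zero, ← two_smul F, smul_smul] at e1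
      have hne0 : (B : M₂) * A ≠ 0 := fun h0 => (B * A).isUnit.ne_zero (by rw [Units.val_mul, h0])
      exact (mul_eq_zero.mp ((smul_eq_zero.mp e1).resolve_right hne0)).resolve_left h2
    rw [hv, zero_smul, add_zero] at huv
    exact hinj (by
      rw [hP, map_one, linAut_eq_one_iff]
      exact ⟨u, fun h0 => P.isUnit.ne_zero (by rw [huv, h0, zero_smul]), huv⟩)
  obtain ⟨za, hza, ea⟩ := hlin a y A W hA hW hya.symm
  obtain ⟨zb, hzb, eb⟩ := hlin b y B W hB hW hyb.symm
  have hba : (B : M₂) * A = -((A : M₂) * B) := by rw [hanti, neg_neg]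
  have hinv : ∀ {p : Y}, p * p = 1 → ∀ {q : Y}, p * q = 1 → q = p := fun hp _ hq =>
    mul_left_cancel (hq.trans hp.symm)
  have hprod : ∀ {p : Y} {P : GL (Fin 2) F}, actHom K e p = linAut P →
      Commute (A : M₂) ((P : M₂) * W) → Commute (B : M₂) ((P : M₂) * W) → p * y = 1 := fun {p P} hP h1 h2' =>
    hexact (p * y) (P * W) (by rw [map_mul, map_mul, hP, hW]) (by rwa [Units.val_mul]) (by rwa [Units.val_mul])
  rcases hza with rfl | rfl <;> rcases hzb with rfl | rfl <;> simp only [one_smul, neg_one_smul] at ea eb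
  · exact Or.inl (hexact y W hW ea eb)
  · refine Or.inr (Or.inl (hinv ha (hprod hA ?_ ?_)))
    · exact (Commute.refl _).mul_right ea
    · show _ = _
      rw [← mul_assoc, hba, neg_mul, mul_assoc, eb, mul_neg, neg_neg, ← mul_assoc]
  · refine Or.inr (Or.inr (Or.inl (hinv hb (hprod hB ?_ ?_))))
    · show _ = _
      rw [← mul_assoc, hanti, neg_mul, mul_assoc, ea, mul_neg, neg_neg, ← mul_assoc]
    · exact (Commute.refl _).mul_right eb
  · refine Or.inr (Or.inr (Or.inr (hinv (p := a * b) ?_ (hprod (P := A * B) ?_ ?_ ?_))))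
    · rw [mul_assoc, ← mul_assoc b, ← hab.eq, mul_assoc a b b, hb, mul_one, ha]
    · rw [map_mul, map_mul, hA, hB]
    · show _ = _
      rw [Units.val_mul]
      calc (A : M₂) * ((A : M₂) * B * W) = (A : M₂) * ((A : M₂) * B) * W := by rw [← mul_assoc]
        _ = -((A : M₂) * B * A) * W := by
          congr 1
          rw [mul_assoc (A : M₂) B A, hba, mul_neg, neg_neg]
        _ = (A : M₂) * B * W * A := by rw [neg_mul, mul_assoc _ (A : M₂), ea, mul_neg, neg_neg, ← mul_assoc]
    · show _ = _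
      rw [Units.val_mul]
      calc (B : M₂) * ((A : M₂) * B * W) = ((B : M₂) * A) * B * W := by simp only [mul_assoc]
        _ = -((A : M₂) * B * B * W) := by rw [hba]; simp only [neg_mul, mul_assoc]
        _ = (A : M₂) * B * W * B := by
          rw [mul_assoc _ (B : M₂) (W : M₂), eb, mul_neg, neg_neg]; simp only [mul_assoc]

/-- Elements of odd order centralising a four group centralise the elements fusing it. -/
theorem psl_fuse_commute {a b g x : Y} (ha : a * a = 1) (ha1 : a ≠ 1) (hb : b * b = 1) (hb1 : b ≠ 1)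
    (hne : a ≠ b) (hab : Commute a b) (hg : g ∈ K) (h1 : g * a * g⁻¹ = b) (h2 : g * b * g⁻¹ = a * b)
    (hxa : Commute x a) (hxb : Commute x b) (hxo : Odd (orderOf x)) : Commute g x := by
  set u := g⁻¹ * (x * g * x⁻¹) with hu
  have hfix : ∀ p q : Y, g * p * g⁻¹ = q → Commute x p → Commute x q → Commute u p := by
    intro p q hpq hxp hxq
    have e1 : x * g * x⁻¹ * p * (x * g * x⁻¹)⁻¹ = q := by
      calc x * g * x⁻¹ * p * (x * g * x⁻¹)⁻¹ = x * g * (x⁻¹ * p * x) * g⁻¹ * x⁻¹ := by group
        _ = x * (g * p * g⁻¹) * x⁻¹ := by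
          rw [show x⁻¹ * p * x = p by rw [mul_assoc, ← hxp.eq, inv_mul_cancel_left]]; group
        _ = q := by rw [hpq, hxq.eq, mul_inv_cancel_right]
    show u * p = p * u
    have e2 : u * p * u⁻¹ = p := by
      rw [hu]
      calc g⁻¹ * (x * g * x⁻¹) * p * (g⁻¹ * (x * g * x⁻¹))⁻¹
            = g⁻¹ * (x * g * x⁻¹ * p * (x * g * x⁻¹)⁻¹) * g := by group
        _ = p := by rw [e1, ← hpq]; group
    exact mul_inv_eq_iff_eq_mul.mp e2
  have huK : u ∈ K := mul_mem (inv_mem hg) (Subgroup.Normal.conj_mem inferInstance g hg x)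
  have hxab : Commute x (a * b) := hxa.mul_right hxb
  have hcases := psl_centralizer_pair e h hodd hC ha ha1 hb hb1 hne hab (le_ker e huK)
    (hfix a b h1 hxa hxb) (hfix b (a * b) h2 hxb hxab)
  have hxu : Commute x u := by
    rcases hcases with e' | e' | e' | e' <;> rw [e']
    exacts [Commute.one_right x, hxa, hxb, hxab]
  have huu : u * u = 1 := by
    rcases hcases with e' | e' | e' | e' <;> rw [e']
    exacts [one_mul 1, ha, hb, by rw [mul_assoc, ← mul_assoc b, ← hab.eq, mul_assoc a b b, hb, mul_one, ha]]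
  have hpow : ∀ k : ℕ, x ^ k * g * (x ^ k)⁻¹ = g * u ^ k := by
    intro k
    induction k with
    | zero => simp
    | succ k ih =>
      calc x ^ (k + 1) * g * (x ^ (k + 1))⁻¹ = x * (x ^ k * g * (x ^ k)⁻¹) * x⁻¹ := by rw [pow_succ']; group
        _ = (x * g * x⁻¹) * (x * u ^ k * x⁻¹) := by rw [ih]; group
        _ = g * u * u ^ k := by
          rw [(hxu.pow_right k).eq, mul_inv_cancel_right, hu, mul_inv_cancel_left]
        _ = g * u ^ (k + 1) := by rw [pow_succ', mul_assoc]
  have := hpow (orderOf x)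
  rw [pow_orderOf_eq_one, one_mul, inv_one, mul_one] at this
  obtain ⟨m, hm⟩ := hxo
  rw [hm, pow_succ, pow_mul, pow_two, huu, one_pow, one_mul] at this
  have hu1 : u = 1 := mul_eq_left.mp this.symm
  rw [hu, inv_mul_eq_one] at hu1
  exact (mul_inv_eq_iff_eq_mul.mp hu1.symm).symm

end Cfsg.Agent.H36.GW
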