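import Mathlib.LinearAlgebra.Matrix.GeneralLinearGroup.Defs
import Mathlib.LinearAlgebra.Matrix.Charpoly.Coeff
import Mathlib.FieldTheory.Finite.Basic
import Mathlib.Tactic

/-!
# Two-by-two matrices over a finite field of odd order

The lemmas used for centralisers of involutions in `PGL(2,q)`.
-/

set_option autoImplicit false

namespace Cfsg.Agent.H36.GW.Mat

open Matrix

variable {F : Type*} [Field F]

local notation "M₂" => Matrix (Fin 2) (Fin 2) F

/-- Cayley-Hamilton in dimension two. -/
theorem mul_self (A : M₂) : A * A = A.trace • A - A.det • (1 : M₂) := by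
  ext i j
  fin_cases i <;> fin_cases j <;>
    simp [Matrix.mul_apply, Fin.sum_univ_two, Matrix.trace_fin_two, Matrix.det_fin_two] <;> ring

/-- An element commuting with a non-scalar matrix is a combination of it and the identity. -/
theorem exists_comb {A B : M₂} (hA : ∀ a : F, A ≠ a • (1 : M₂)) (h : Commute A B) :
    ∃ x y : F, B = x • (1 : M₂) + y • A := by
  have e := h.eq
  have h00 := congrFun (congrFun e 0) 0
  have h01 := congrFun (congrFun e 0) 1
  have h10 := congrFun (congrFun e 1) 0
  simp [Matrix.mul_apply, Fin.sum_univ_two] at h00 h01 h10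
  by_cases hb : A 0 1 = 0
  · by_cases hc : A 1 0 = 0
    · have hne : A 0 0 - A 1 1 ≠ 0 := fun hd => hA (A 0 0) (by
        ext i j
        fin_cases i <;> fin_cases j <;> simp [hb, hc]
        exact (sub_eq_zero.mp hd).symm)
      refine ⟨B 0 0 - (B 0 0 - B 1 1) / (A 0 0 - A 1 1) * A 0 0,
        (B 0 0 - B 1 1) / (A 0 0 - A 1 1), ?_⟩
      have hB01 : B 0 1 = 0 := by
        refine mul_left_cancel₀ hne ?_
        rw [hb] at h01; linear_combination h01
      have hB10 : B 1 0 = 0 := by
        refine mul_left_cancel₀ hne ?_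
        rw [hc] at h10; linear_combination -h10
      ext i j
      fin_cases i <;> fin_cases j <;> simp [hb, hc, hB01, hB10]
      field_simp
      ring
    · refine ⟨B 0 0 - B 1 0 / A 1 0 * A 0 0, B 1 0 / A 1 0, ?_⟩
      ext i j
      fin_cases i <;> fin_cases j <;> simp [hb]
      · rw [hb] at h00
        refine mul_left_cancel₀ hc ?_
        rw [mul_zero]
        linear_combination -h00
      · field_simp
      · field_simp
        rw [hb] at h00 h01
        linear_combination -h10
  · refine ⟨B 0 0 - B 0 1 / A 0 1 * A 0 0, B 0 1 / A 0 1, ?_⟩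
    ext i j
    fin_cases i <;> fin_cases j <;> simp
    · field_simp
    · field_simp
      linear_combination h00
    · field_simp
      linear_combination h01

theorem commute_comb (A : M₂) (x y u v : F) :
    Commute (x • (1 : M₂) + y • A) (u • (1 : M₂) + v • A) := by
  unfold Commute SemiconjBy
  simp only [add_mul, mul_add, smul_mul_assoc, mul_smul_comm, mul_one, one_mul, smul_add, smul_smul]
  rw [mul_comm u x, mul_comm u y, mul_comm v x, mul_comm v y]
  abel

/-- Two elements commuting with one non-scalar matrix commute. -/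
theorem commute_of_commute {A B C : M₂} (hA : ∀ a : F, A ≠ a • (1 : M₂)) (hB : Commute A B)
    (hC : Commute A C) : Commute B C := by
  obtain ⟨x, y, rfl⟩ := exists_comb hA hB
  obtain ⟨u, v, rfl⟩ := exists_comb hA hC
  exact commute_comb A x y u v

/-- Commuting up to a scalar is commuting, unless the trace vanishes. -/
theorem twist_cases {X R : M₂} {c : F} (hX : IsUnit X.det) (hR : IsUnit R.det)
    (h : X * R = c • (R * X)) : (c = 1) ∨ (c = -1 ∧ R.trace = -R.trace) := by
  have hd := congrArg Matrix.det h
  rw [Matrix.det_smul, Matrix.det_mul, Matrix.det_mul, Fintype.card_fin] at hd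
  have hc : c ^ 2 = 1 := by
    have hne : X.det * R.det ≠ 0 := mul_ne_zero hX.ne_zero hR.ne_zero
    refine mul_right_cancel₀ hne ?_
    linear_combination -hd
  rcases sq_eq_one_iff.mp hc with e | e
  · exact Or.inl e
  · refine Or.inr ⟨e, ?_⟩
    subst e
    have hu : X * R * X⁻¹ = -R := by
      rw [h, neg_one_smul, Matrix.neg_mul, mul_assoc, Matrix.mul_nonsing_inv _ hX, mul_one]
    have := congrArg Matrix.trace hu
    rwa [Matrix.trace_mul_cycle, Matrix.nonsing_inv_mul _ hX, one_mul, Matrix.trace_neg] at this

/-- The companion matrix of `X² = s`. -/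
def comp (s : F) : M₂ := !![0, s; 1, 0]

/-- The matrices anticommuting with `comp s`. -/
def anti (s x y : F) : M₂ := !![x, -(s * y); y, -x]

theorem det_anti (s x y : F) : (anti s x y).det = -(x ^ 2) + s * y ^ 2 := by
  simp [anti, Matrix.det_fin_two]; ring

theorem anti_of_anticommute {s : F} {J : M₂} (h : comp s * J = -(J * comp s)) :
    J = anti s (J 0 0) (J 1 0) := by
  have h10 := congrFun (congrFun h 1) 0
  have h00 := congrFun (congrFun h 0) 0
  simp [comp, Matrix.mul_apply, Fin.sum_univ_two] at h10 h00
  ext i j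
  fin_cases i <;> fin_cases j <;> simp [anti]
  · linear_combination h00
  · linear_combination h10

theorem anticommute_anti (s x y : F) : comp s * anti s x y = -(anti s x y * comp s) := by
  ext i j
  fin_cases i <;> fin_cases j <;> simp [comp, anti, Matrix.mul_apply, Fin.sum_univ_two] <;> ring

/-- The core computation: `J` anticommutes with `A`, and its conjugates under the centraliser of `A`
with square determinant commute with it. -/
theorem core [Fintype F] (hodd : ringChar F ≠ 2) (h5 : 5 ≤ Fintype.card F) {s p h v : F}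
    (hs : s ≠ 0) (hJ : h ≠ 0 ∨ v ≠ 0) (hdet : p ^ 2 - (h ^ 2 - s * v ^ 2) ≠ 0)
    (hR2 : p ≠ 0)
    (hR4 : p ^ 2 + (h ^ 2 - s * v ^ 2) ≠ 0)
    (hconj : ∀ Y : M₂, Y.det ≠ 0 → IsSquare Y.det →
      (comp s * Y = Y * comp s ∨ comp s * Y = -(Y * comp s)) →
      Commute (Y * anti s h v * Y.adjugate) (anti s h v)) : False := by
  have h2 : (2 : F) ≠ 0 := Ring.two_ne_zero hodd
  set j := h ^ 2 - s * v ^ 2 with hj
  -- squares of the torus
  have htorus : ∀ x : F, x ^ 2 ≠ s → j ≠ 0 → x = 0 ∨ x ^ 2 = -s := by
    intro x hx hj0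
    have hY : ((!![x ^ 2 + s, 2 * x * s; 2 * x, x ^ 2 + s] : M₂)).det = (x ^ 2 - s) * (x ^ 2 - s) := by
      simp [Matrix.det_fin_two]; ring
    have hc := (hconj (!![x ^ 2 + s, 2 * x * s; 2 * x, x ^ 2 + s])
      (by rw [hY]; exact mul_ne_zero (sub_ne_zero.mpr hx) (sub_ne_zero.mpr hx))
      (by rw [hY]; exact ⟨_, rfl⟩) (Or.inl (by
        ext i k
        fin_cases i <;> fin_cases k <;> simp [comp, Matrix.mul_apply, Fin.sum_univ_two] <;> ring))).eq
    have e1 := congrFun (congrFun hc 0) 1
    have e2 := congrFun (congrFun hc 1) 0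
    simp [anti, Matrix.mul_apply, Fin.sum_univ_two, Matrix.adjugate_fin_two] at e1 e2
    have key : (x ^ 2 + s) * (2 * x) * j = 0 := by
      rw [hj]
      refine mul_left_cancel₀ (pow_ne_zero 2 h2) ?_
      linear_combination e2
    rcases mul_eq_zero.mp key with e | e
    · rcases mul_eq_zero.mp e with e | e
      · exact Or.inr (by linear_combination e)
      · exact Or.inl ((mul_eq_zero.mp e).resolve_left h2)
    · exact absurd e hj0
  -- an anticommuting element with square determinant
  have hanti : ∀ x y : F, -(x ^ 2) + s * y ^ 2 ≠ 0 → IsSquare (-(x ^ 2) + s * y ^ 2) →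
      (x * h - s * y * v) * (y * h - x * v) = 0 := by
    intro x y hne hsq
    have hc := (hconj (anti s x y) (by rwa [det_anti]) (by rwa [det_anti])
      (Or.inr (anticommute_anti s x y))).eq
    have e2 := congrFun (congrFun hc 1) 0
    simp [anti, Matrix.mul_apply, Fin.sum_univ_two, Matrix.adjugate_fin_two] at e2
    refine mul_left_cancel₀ (pow_ne_zero 2 h2) ?_
    linear_combination (-1 : F) * e2
  by_cases hj0 : j = 0
  · obtain ⟨x, y, hxy⟩ : ∃ x y : F, -(x ^ 2) + s * y ^ 2 = 1 := by
      obtain ⟨a, b, hab⟩ := FiniteField.exists_root_sum_quadratic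
        (f := (-(Polynomial.X ^ 2) : Polynomial F)) (g := Polynomial.C s * Polynomial.X ^ 2 - 1)
        (by rw [Polynomial.degree_neg, Polynomial.degree_X_pow]; rfl)
        (by
          rw [Polynomial.degree_sub_eq_left_of_degree_lt] <;>
            simp [Polynomial.degree_C hs])
        (FiniteField.odd_card_of_char_ne_two hodd)
      refine ⟨a, b, ?_⟩
      simp at hab
      linear_combination hab
    have hz := hanti x y (by rw [hxy]; exact one_ne_zero) (by rw [hxy]; exact IsSquare.one)
    have hnorm : (x * h - s * y * v) ^ 2 - s * (y * h - x * v) ^ 2 = 0 := by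
      rw [show (x * h - s * y * v) ^ 2 - s * (y * h - x * v) ^ 2 = (x ^ 2 - s * y ^ 2) * j by rw [hj]; ring,
        hj0, mul_zero]
    have hboth : x * h - s * y * v = 0 ∧ y * h - x * v = 0 := by
      rcases mul_eq_zero.mp hz with e | e
      · refine ⟨e, ?_⟩
        rw [e, zero_pow two_ne_zero, zero_sub, neg_eq_zero] at hnorm
        exact pow_eq_zero_iff two_ne_zero |>.mp ((mul_eq_zero.mp hnorm).resolve_left hs)
      · refine ⟨?_, e⟩
        rw [e, zero_pow two_ne_zero, mul_zero, sub_zero] at hnorm
        exact pow_eq_zero_iff two_ne_zero |>.mp hnorm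
    have hh : h = 0 := by linear_combination (-x) * hboth.1 + s * y * hboth.2 - h * hxy
    have hv : v = 0 := by linear_combination -y * hboth.1 + x * hboth.2 - v * hxy
    rcases hJ with e | e
    exacts [e hh, e hv]
  -- `j ≠ 0`: only the field of five elements remains
  classical
  have hfour : ∀ x : F, x ≠ 0 → x ^ 2 = s ∨ x ^ 2 = -s := fun x hx => by
    by_cases hxs : x ^ 2 = s
    · exact Or.inl hxs
    · exact Or.inr ((htorus x hxs hj0).resolve_left hx)
  have hcard : Fintype.card F ≤ 5 := by
    let f : Polynomial F := Polynomial.X ^ 4 - Polynomial.C (s ^ 2)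
    have hf : f ≠ 0 := Polynomial.X_pow_sub_C_ne_zero (by norm_num) _
    have hsub : (Finset.univ.erase (0 : F)) ⊆ f.roots.toFinset := by
      intro x hx
      rw [Multiset.mem_toFinset, Polynomial.mem_roots hf]
      have := hfour x (Finset.ne_of_mem_erase hx)
      simp only [f, Polynomial.IsRoot, Polynomial.eval_sub, Polynomial.eval_pow, Polynomial.eval_X,
        Polynomial.eval_C]
      rcases this with e | e
      · linear_combination (x ^ 2 + s) * e
      · linear_combination (x ^ 2 - s) * e
    have h1 := Finset.card_le_card hsub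
    rw [Finset.card_erase_of_mem (Finset.mem_univ _), Finset.card_univ] at h1
    have h3 := (Multiset.toFinset_card_le f.roots).trans (Polynomial.card_roots' f)
    rw [Polynomial.natDegree_X_pow_sub_C] at h3
    omega
  have hq : Fintype.card F = 5 := le_antisymm hcard h5
  have h50 : (5 : F) = 0 := by
    have := FiniteField.cast_card_eq_zero F
    rwa [hq] at this
  have hpow : ∀ x : F, x ≠ 0 → x ^ 4 = 1 := fun x hx => by
    have := FiniteField.pow_card_sub_one_eq_one x hx
    rwa [hq] at this
  have hs2 : s ^ 2 = 1 := by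
    rcases hfour 1 one_ne_zero with e | e
    · linear_combination (-(s : F) - 1) * e
    · linear_combination (s - 1) * e
  have hsq4 : ∀ x : F, x ≠ 0 → x ^ 2 = 1 ∨ x ^ 2 = -1 := fun x hx => by
    have : (x ^ 2 - 1) * (x ^ 2 + 1) = 0 := by linear_combination hpow x hx
    rcases mul_eq_zero.mp this with e | e
    · exact Or.inl (sub_eq_zero.mp e)
    · exact Or.inr (eq_neg_of_add_eq_zero_left e)
  have hhv : h = 0 ∨ v = 0 := by
    have := hanti 1 0 (by simp) ⟨2, by linear_combination -h50⟩
    simp at this
    exact this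
  have hp := hsq4 p hR2
  have hjsq : j = 1 ∨ j = -1 := by
    have hsv : ∀ w : F, w ≠ 0 → -(s * w ^ 2) = 1 ∨ -(s * w ^ 2) = -1 := fun w hw => by
      rcases sq_eq_one_iff.mp hs2 with es | es <;> rcases hsq4 w hw with e | e <;> rw [es, e] <;>
        norm_num
    rcases hhv with e | e
    · subst e
      have hv : v ≠ 0 := fun e => hj0 (by rw [hj, e]; ring)
      rcases hsv v hv with e' | e'
      · exact Or.inl (by rw [hj]; linear_combination e')
      · exact Or.inr (by rw [hj]; linear_combination e')
    · subst e
      have hh : h ≠ 0 := fun e => hj0 (by rw [hj, e]; ring)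
      rcases hsq4 h hh with e' | e'
      · exact Or.inl (by rw [hj]; linear_combination e')
      · exact Or.inr (by rw [hj]; linear_combination e')
  rcases hp with ep | ep <;> rcases hjsq with ej | ej
  · exact hdet (by rw [ep, ej, sub_self])
  · exact hR4 (by rw [ep, ej, add_neg_cancel])
  · exact hR4 (by rw [ep, ej, neg_add_cancel])
  · exact hdet (by rw [ep, ej, sub_self])

end Cfsg.Agent.H36.GW.Mat
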