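import Cfsg.Agent.H4.GW.AutShape
import Cfsg.Agent.H36.GW.Matrix2

/-!
# GW programme, P1: `PGL(2,q)` inside a group over `PSL(2,q)`
-/

set_option autoImplicit false
set_option linter.unusedSectionVars false

namespace Cfsg.Agent.H36.GW

open Subgroup Cfsg.Agent Cfsg.Agent.H4.GW Cfsg.Agent.H63.GW
open Cfsg.Agent.H56 (PSLn SLn toP)
open Cfsg.Agent.H5.EvenCyclic (linAut)

universe u

variable {F : Type} [Field F] [Fintype F]

local notation "M₂" => Matrix (Fin 2) (Fin 2) F

theorem linAut_eq_iff {g h : GL (Fin 2) F} :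
    linAut g = linAut h ↔ ∃ c : F, c ≠ 0 ∧ (g : M₂) = c • (h : M₂) := by
  constructor
  · intro e
    have hm : g * h⁻¹ ∈ (linAut (F := F)).ker := by rw [MonoidHom.mem_ker, map_mul, map_inv, e, mul_inv_cancel]
    rw [H56.pglToAut_ker, Matrix.GeneralLinearGroup.center_eq_range_scalar] at hm
    obtain ⟨c, hc⟩ := hm
    refine ⟨(c : F), c.ne_zero, ?_⟩
    have := congrArg (fun M : GL (Fin 2) F => (M : M₂)) (eq_mul_inv_iff_mul_eq.mp hc).symm
    rw [this, Units.val_mul, Matrix.GeneralLinearGroup.coe_scalar, Matrix.smul_eq_diagonal_mul]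
    rfl
  · rintro ⟨c, hc, e⟩
    have : g = Matrix.GeneralLinearGroup.scalar (Fin 2) (Units.mk0 c hc) * h := by
      apply Units.ext
      rw [Units.val_mul, Matrix.GeneralLinearGroup.coe_scalar, e, Matrix.smul_eq_diagonal_mul]
      rfl
    rw [this, map_mul, H5.EvenCyclic.linAut_scalar, one_mul]

theorem linAut_eq_one_iff {g : GL (Fin 2) F} :
    linAut g = 1 ↔ ∃ c : F, c ≠ 0 ∧ (g : M₂) = c • (1 : M₂) := by
  rw [← map_one (linAut (F := F)), linAut_eq_iff]
  simp

variable {Y : Type u} [Group Y] [Finite Y] {K : Subgroup Y} [K.Normal] (e : ↥K ≃* PSLn 2 F)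

/-- A linear map with square determinant is realised in `K`. -/
theorem exists_mem_of_det_sq (g : GL (Fin 2) F) (h : IsSquare (g : M₂).det) :
    ∃ k ∈ K, actHom K e k = linAut g := by
  have hu : IsSquare ((Matrix.GeneralLinearGroup.det g : Fˣ) : F) := by
    rwa [Matrix.GeneralLinearGroup.val_det_apply]
  obtain ⟨c, hc⟩ := H5.EvenCyclic.exists_sq_iff.1 hu
  set d := g * Matrix.GeneralLinearGroup.scalar (Fin 2) c⁻¹ with hd
  have hdet : Matrix.GeneralLinearGroup.det d = 1 := by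
    have hsc : Matrix.GeneralLinearGroup.det (Matrix.GeneralLinearGroup.scalar (Fin 2) c⁻¹) =
        c⁻¹ * c⁻¹ := by
      apply Units.ext
      rw [Matrix.GeneralLinearGroup.val_det_apply, Matrix.GeneralLinearGroup.coe_scalar]
      simp [pow_two]
    rw [hd, map_mul, hc, hsc, ← mul_inv_rev, mul_inv_cancel]
  let s : SLn 2 F := ⟨(d : M₂), by rw [← Matrix.GeneralLinearGroup.val_det_apply, hdet, Units.val_one]⟩
  refine ⟨((e.symm (toP s) : ↥K) : Y), SetLike.coe_mem _, ?_⟩
  rw [actHom_symm, ← H5.EvenCyclic.linAut_toGL, show Matrix.SpecialLinearGroup.toGL s = d from Units.ext rfl,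
    hd, map_mul, H5.EvenCyclic.linAut_scalar, mul_one]

variable (h : SylowDType Y) (hodd : Odd (Fintype.card F)) (hC : centralizer (K : Set Y) = ⊥)
include h hodd hC

theorem exists_rep_invol {a : Y} (ha : a * a = 1) (ha1 : a ≠ 1) :
    ∃ A : GL (Fin 2) F, actHom K e a = linAut A ∧ (∀ x : F, (A : M₂) ≠ x • (1 : M₂)) ∧
      (A : M₂).trace = 0 := by
  obtain ⟨A, hA⟩ := exists_lin e (y := a) (MonoidHom.mem_ker.2 (fieldPart_involution e h hodd hC ha))
  have hns : ∀ x : F, (A : M₂) ≠ x • (1 : M₂) := by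
    intro x hx
    refine ha1 (actHom_injective hC e ?_)
    rw [hA, map_one, linAut_eq_one_iff]
    refine ⟨x, fun h0 => A.isUnit.ne_zero ?_, hx⟩
    rw [hx, h0, zero_smul]
  refine ⟨A, hA, hns, ?_⟩
  by_contra ht
  obtain ⟨c, -, hc⟩ := linAut_eq_one_iff.mp (show linAut (A * A) = 1 by
    rw [map_mul, ← hA, ← map_mul, ha, map_one])
  rw [Units.val_mul, Mat.mul_self, sub_eq_iff_eq_add] at hc
  refine hns ((c + (A : M₂).det) / (A : M₂).trace) ?_
  rw [div_eq_inv_mul, mul_smul, add_smul, ← hc, smul_smul, inv_mul_cancel₀ ht, one_smul]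

end Cfsg.Agent.H36.GW
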