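import Mathlib.GroupTheory.Perm.Sign
import Mathlib.Data.List.NodupEquivFin
import Mathlib.Tactic

/-!
# Finite checks in `A₇`
-/

set_option autoImplicit false
set_option maxHeartbeats 4000000

namespace Cfsg.Agent.H36.GW.Seven

open Equiv

/-- `(0 1)(2 3)`. -/
abbrev a₀ : Perm (Fin 7) := swap 0 1 * swap 2 3

/-- `(4 5 6)`. -/
abbrev d₀ : Perm (Fin 7) := swap 4 5 * swap 5 6

/-- The elements of the dihedral group of order eight on `{0,1,2,3}`. -/
abbrev sq₀ : List (Perm (Fin 7)) :=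
  [1, swap 0 1 * swap 2 3, swap 0 2 * swap 1 3, swap 0 3 * swap 1 2, swap 0 1, swap 2 3,
    swap 0 1 * (swap 0 2 * swap 1 3), swap 0 1 * (swap 0 3 * swap 1 2)]

/-- The permutations of `{4,5,6}`. -/
abbrev tri₀ : List (Perm (Fin 7)) :=
  [1, swap 4 5, swap 4 6, swap 5 6, swap 4 5 * swap 5 6, swap 5 6 * swap 4 5]

/-- The centraliser of `a₀`. -/
def cent : List (Perm (Fin 7)) := sq₀.flatMap fun x => tri₀.map fun y => x * y

theorem moved (x : Perm (Fin 7)) (h : x * a₀ = a₀ * x) (i : Fin 7) (hi : (i : ℕ) < 4) : ((x i : Fin 7) : ℕ) < 4 := by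
  have h1 : ∀ j : Fin 7, a₀ j = j ↔ ¬ (j : ℕ) < 4 := by decide
  by_contra hc
  have h2 := congrArg (fun f : Perm (Fin 7) => f i) h
  simp only [Perm.mul_apply, (h1 (x i)).mpr hc] at h2
  exact (h1 i).mp (x.injective h2) hi

theorem fixed (x : Perm (Fin 7)) (h : x * a₀ = a₀ * x) (i : Fin 7) (hi : ¬ (i : ℕ) < 4) : ¬ ((x i : Fin 7) : ℕ) < 4 := by
  have h1 : ∀ j : Fin 7, a₀ j = j ↔ ¬ (j : ℕ) < 4 := by decide
  intro hc
  have h2 := congrArg (fun f : Perm (Fin 7) => f i) h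
  simp only [Perm.mul_apply, (h1 i).mpr hi] at h2
  exact (h1 (x i)).mp h2.symm hc

theorem small_enum : ∀ p q : Fin 7, (p : ℕ) < 4 → (q : ℕ) < 4 → q ≠ p → q ≠ a₀ p →
    ∃ m ∈ sq₀, m 0 = p ∧ m 2 = q := by decide +kernel

theorem tri_enum : ∀ r u v : Fin 7, ¬ (r : ℕ) < 4 → ¬ (u : ℕ) < 4 → ¬ (v : ℕ) < 4 → r ≠ u → r ≠ v → u ≠ v →
    ∃ m ∈ tri₀, m 4 = r ∧ m 5 = u ∧ m 6 = v := by decide +kernel

theorem sq_fix : ∀ m ∈ sq₀, m 4 = 4 ∧ m 5 = 5 ∧ m 6 = 6 ∧ ∀ i, m (a₀ i) = a₀ (m i) := by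
  have h : sq₀.all (fun m => decide (m 4 = 4 ∧ m 5 = 5 ∧ m 6 = 6 ∧ ∀ i, m (a₀ i) = a₀ (m i))) = true := by
    decide +kernel
  exact fun m hm => of_decide_eq_true (List.all_eq_true.mp h m hm :)

theorem tri_fix : ∀ m ∈ tri₀, ∀ i : Fin 7, (i : ℕ) < 4 → m i = i := by
  have h : tri₀.all (fun m => decide (∀ i : Fin 7, (i : ℕ) < 4 → m i = i)) = true := by
    decide +kernel
  exact fun m hm => of_decide_eq_true (List.all_eq_true.mp h m hm :)

theorem mem_cent {x : Perm (Fin 7)} (h : x * a₀ = a₀ * x) : x ∈ cent := by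
  have hx : ∀ i, x (a₀ i) = a₀ (x i) := fun i => congrArg (fun f : Perm (Fin 7) => f i) h
  obtain ⟨m, hm, hm0, hm2⟩ := small_enum (x 0) (x 2) (moved x h 0 (by decide)) (moved x h 2 (by decide))
    (fun e => absurd (x.injective e) (by decide))
    (fun e => by
      rw [← hx 0] at e
      exact absurd (x.injective e) (by decide))
  obtain ⟨t, ht, ht4, ht5, ht6⟩ := tri_enum (x 4) (x 5) (x 6) (fixed x h 4 (by decide))
    (fixed x h 5 (by decide)) (fixed x h 6 (by decide))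
    (fun e => absurd (x.injective e) (by decide)) (fun e => absurd (x.injective e) (by decide))
    (fun e => absurd (x.injective e) (by decide))
  obtain ⟨-, -, -, hmc⟩ := sq_fix m hm
  have hfix : ∀ i : Fin 7, ¬ (i : ℕ) < 4 → m i = i := by
    obtain ⟨h4, h5, h6, -⟩ := sq_fix m hm
    intro i hi
    fin_cases i <;> simp at hi <;> assumption
  have e01 : a₀ 0 = 1 := by decide
  have e23 : a₀ 2 = 3 := by decide
  have he : x = m * t := by
    ext i : 1
    rw [Perm.mul_apply]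
    fin_cases i
    · show x 0 = m (t 0)
      rw [tri_fix t ht 0 (by decide), hm0]
    · show x 1 = m (t 1)
      rw [tri_fix t ht 1 (by decide), ← e01, hx, hmc, hm0]
    · show x 2 = m (t 2)
      rw [tri_fix t ht 2 (by decide), hm2]
    · show x 3 = m (t 3)
      rw [tri_fix t ht 3 (by decide), ← e23, hx, hmc, hm2]
    · show x 4 = m (t 4)
      rw [ht4, hfix _ (fixed x h 4 (by decide))]
    · show x 5 = m (t 5)
      rw [ht5, hfix _ (fixed x h 5 (by decide))]
    · show x 6 = m (t 6)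
      rw [ht6, hfix _ (fixed x h 6 (by decide))]
  exact List.mem_flatMap.mpr ⟨m, hm, List.mem_map.mpr ⟨t, ht, he.symm⟩⟩

theorem pow_twelve : ∀ x ∈ cent, x ^ 12 = 1 := by
  have h : cent.all (fun x => decide (x ^ 12 = 1)) = true := by decide +kernel
  exact fun x hx => of_decide_eq_true (List.all_eq_true.mp h x hx :)

theorem torus_check : ∀ i j k l : Fin 7, [i, j, k, l].Nodup →
    (swap i j * swap k l * a₀) ^ 4 = 1 ∨
      d₀ * (swap i j * swap k l * a₀) * d₀⁻¹ * (swap i j * swap k l * a₀) ≠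
        swap i j * swap k l * a₀ * (d₀ * (swap i j * swap k l * a₀) * d₀⁻¹) := by decide +kernel

/-- The condition that every element of order three centralising `a₀` and `b` satisfies `P`. -/
def allThree (b : Perm (Fin 7)) (P : Perm (Fin 7) → Bool) : Bool :=
  cent.all fun x => !(decide (x * b = b * x) && decide (x ^ 3 = 1)) || P x

/-- `g` maps `a₀` to `b` and `b` to `a₀ * b`. -/
def fusesB (g b : Perm (Fin 7)) : Bool :=
  decide (g * a₀ * g⁻¹ = b) && decide (g * b * g⁻¹ = a₀ * b) && decide (Perm.sign g = 1) &&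
    allThree b fun x => decide (g * x = x * g)

/-- The check on one element `b`. -/
def fuseB (b : Perm (Fin 7)) : Bool :=
  !(decide (b * b = 1) && decide (Perm.sign b = 1)) || decide (b = 1) || decide (b = a₀) ||
    allThree b (fun x => decide (x = 1)) ||
    fusesB (swap 1 2 * swap 2 3) b || fusesB (swap 2 3 * swap 1 2) b

theorem fuse_all : cent.all fuseB = true := by decide +kernel

theorem fuse_check {b : Perm (Fin 7)} (hb : b ∈ cent) (h2 : b * b = 1) (h1 : b ≠ 1) (ha : b ≠ a₀)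
    (hs : Perm.sign b = 1) :
    (∀ x ∈ cent, x * b = b * x → x ^ 3 = 1 → x = 1) ∨
      ∃ g : Perm (Fin 7), g * a₀ * g⁻¹ = b ∧ g * b * g⁻¹ = a₀ * b ∧
        Perm.sign g = 1 ∧ ∀ x ∈ cent, x * b = b * x → x ^ 3 = 1 → g * x = x * g := by
  have h := List.all_eq_true.mp fuse_all b hb
  have key : ∀ P : Perm (Fin 7) → Bool, allThree b P = true →
      ∀ x ∈ cent, x * b = b * x → x ^ 3 = 1 → P x = true := by
    intro P hP x hx e1 e2
    simpa [e1, e2] using List.all_eq_true.mp hP x hx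
  simp only [fuseB, fusesB, h2, hs, h1, ha, decide_true, decide_false, Bool.and_self, Bool.not_true,
    Bool.or_false, Bool.false_or, Bool.or_eq_true, Bool.and_eq_true, decide_eq_true_eq] at h
  rcases h with (h | h) | h
  · exact Or.inl fun x hx e1 e2 => of_decide_eq_true (key _ h x hx e1 e2)
  all_goals
    exact Or.inr ⟨_, h.1.1.1, h.1.1.2, h.1.2, fun x hx e1 e2 => of_decide_eq_true (key _ h.2 x hx e1 e2)⟩

end Cfsg.Agent.H36.GW.Seven
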