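import Cfsg.Agent.H36.GW.Linear

/-!
# GW programme, P1: involutions of `PGL(2,q)` and odd abelian subgroups normalised by their centralisers
-/

set_option autoImplicit false
set_option linter.unusedSectionVars false

namespace Cfsg.Agent.H36.GW

open Subgroup Cfsg.Agent Cfsg.Agent.H4.GW Cfsg.Agent.H63.GW
open Cfsg.Agent.H56 (PSLn SLn toP)
open Cfsg.Agent.H5.EvenCyclic (linAut)

universe u

variable {F : Type} [Field F] [Fintype F]

local notation "M₂" => Matrix (Fin 2) (Fin 2) F

/-- A non-scalar matrix of trace zero is similar to a companion matrix. -/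
theorem exists_companion {A : M₂} (hA : ∀ x : F, A ≠ x • (1 : M₂)) (ht : A.trace = 0) :
    ∃ P : GL (Fin 2) F, A * (P : M₂) = (P : M₂) * Mat.comp (-A.det) := by
  have hd : A 1 1 = -A 0 0 := by
    rw [Matrix.trace_fin_two] at ht; linear_combination ht
  have key : ∀ u v : F, (!![u, A 0 0 * u + A 0 1 * v; v, A 1 0 * u + A 1 1 * v] : M₂).det ≠ 0 →
      ∃ P : GL (Fin 2) F, A * (P : M₂) = (P : M₂) * Mat.comp (-A.det) := by
    intro u v hne
    refine ⟨Matrix.GeneralLinearGroup.mkOfDetNeZero _ hne, ?_⟩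
    show A * _ = _ * _
    ext i j
    fin_cases i <;> fin_cases j <;>
      simp [Mat.comp, Matrix.mul_apply, Fin.sum_univ_two, Matrix.det_fin_two, hd] <;> ring
  by_cases h10 : A 1 0 = 0
  · by_cases h01 : A 0 1 = 0
    · refine key 1 1 ?_
      simp [Matrix.det_fin_two, h10, h01, hd]
      intro e
      refine hA (A 0 0) ?_
      ext i j
      fin_cases i <;> fin_cases j <;> simp [h10, h01]
      rw [hd]; linear_combination e
    · refine key 0 1 ?_
      simp [Matrix.det_fin_two, h01]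
  · refine key 1 0 ?_
    simp [Matrix.det_fin_two, h10]

variable {Y : Type u} [Group Y] [Finite Y] {K : Subgroup Y} [K.Normal] (e : ↥K ≃* PSLn 2 F)
variable (h : SylowDType Y) (hodd : Odd (Fintype.card F)) (hC : centralizer (K : Set Y) = ⊥)
include e h hodd hC

/-- Elements commuting with one of odd order in `PGL(2,q)` commute. -/
theorem commute_of_odd {x y z : Y} (hx : x ∈ (fieldPartHom e).ker) (hy : y ∈ (fieldPartHom e).ker)
    (hz : z ∈ (fieldPartHom e).ker) (hzo : Odd (orderOf z)) (hz1 : z ≠ 1)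
    (hxz : Commute x z) (hyz : Commute y z) : Commute x y := by
  obtain ⟨X, hX⟩ := exists_lin e hx
  obtain ⟨W, hW⟩ := exists_lin e hy
  obtain ⟨Z, hZ⟩ := exists_lin e hz
  have hinj := actHom_injective hC e
  have hz2 : z * z ≠ 1 := fun e2 => hz1 (H5.EvenCyclic.odd_pow_two hzo (k := 1) (by rw [pow_one, pow_two, e2]))
  have hZns : ∀ a : F, (Z : M₂) ≠ a • (1 : M₂) := fun a ha => hz1 (hinj (by
    rw [hZ, map_one, linAut_eq_one_iff]
    exact ⟨a, fun h0 => Z.isUnit.ne_zero (by rw [ha, h0, zero_smul]), ha⟩))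
  have hexact : ∀ (w : Y) (W : GL (Fin 2) F), actHom K e w = linAut W → Commute w z →
      Commute (Z : M₂) (W : M₂) := by
    intro w W hW hwz
    obtain ⟨c, -, hc⟩ := linAut_eq_iff.mp (show linAut (W * Z) = linAut (Z * W) by
      rw [map_mul, map_mul, ← hW, ← hZ, ← map_mul, ← map_mul, hwz.eq])
    rw [Units.val_mul, Units.val_mul] at hc
    rcases Mat.twist_cases ((Matrix.isUnit_iff_isUnit_det _).mp W.isUnit)
        ((Matrix.isUnit_iff_isUnit_det _).mp Z.isUnit) hc with e1 | ⟨-, htr⟩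
    · rw [e1, one_smul] at hc
      exact hc.symm
    · have h0 : (Z : M₂).trace = 0 := by
        have h2 := two_ne hodd
        refine mul_left_cancel₀ h2 ?_
        linear_combination htr
      refine absurd (hinj ?_) hz2
      rw [map_mul, hZ, map_one, ← map_mul, linAut_eq_one_iff]
      refine ⟨-(Z : M₂).det, neg_ne_zero.mpr ((Matrix.isUnit_iff_isUnit_det _).mp Z.isUnit).ne_zero, ?_⟩
      rw [Units.val_mul, Mat.mul_self, h0, zero_smul, zero_sub, neg_smul]
  have hWX := Mat.commute_of_commute hZns (hexact x X hX hxz) (hexact y W hW hyz)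
  refine hinj ?_
  rw [map_mul, map_mul, hX, hW, ← map_mul, ← map_mul]
  exact congrArg linAut (Units.ext hWX.eq)

/-- No non-trivial odd element is inverted by an involution and commutes with its conjugates under
the centraliser of the involution. -/
theorem psl_no_inverted (h3 : 3 < Fintype.card F) {a r : Y} (ha : a * a = 1) (ha1 : a ≠ 1)
    (hr : r ∈ (fieldPartHom e).ker) (hro : Odd (orderOf r)) (hinv : a * r * a⁻¹ = r⁻¹)
    (hcomm : ∀ y : Y, Commute y a → Commute (y * r * y⁻¹) r) : r = 1 := by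
  by_contra hr1
  have hinj := actHom_injective hC e
  have h2 := two_ne hodd
  have hr2 : r * r ≠ 1 := fun e2 => hr1 (H5.EvenCyclic.odd_pow_two hro (k := 1) (by rw [pow_one, pow_two, e2]))
  have hr4 : r * r * (r * r) ≠ 1 := fun e4 => hr1 (H5.EvenCyclic.odd_pow_two hro (k := 2) (by
    rw [show (2 : ℕ) ^ 2 = 2 + 2 by norm_num, pow_add, pow_two, e4]))
  obtain ⟨A, hA, hAns, hAt⟩ := exists_rep_invol e h hodd hC ha ha1
  obtain ⟨R₀, hR₀⟩ := exists_lin e hr
  obtain ⟨P, hP⟩ := exists_companion hAns hAt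
  set s : F := -(A : M₂).det with hsdef
  have hs : s ≠ 0 := neg_ne_zero.mpr ((Matrix.isUnit_iff_isUnit_det _).mp A.isUnit).ne_zero
  obtain ⟨C, hCdef⟩ : ∃ C : GL (Fin 2) F, C = P⁻¹ * A * P := ⟨_, rfl⟩
  have hCm : (C : M₂) = Mat.comp s := by
    rw [hCdef, Units.val_mul, Units.val_mul, mul_assoc, hP, ← mul_assoc, ← Units.val_mul, inv_mul_cancel,
      Units.val_one, one_mul]
  obtain ⟨R, hRdef⟩ : ∃ R : GL (Fin 2) F, R = P⁻¹ * R₀ * P := ⟨_, rfl⟩
  have hRns : ∀ x : F, (R : M₂) ≠ x • (1 : M₂) := by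
    intro x hx
    have e1 : linAut R = 1 := linAut_eq_one_iff.mpr ⟨x, fun h0 => R.isUnit.ne_zero (by rw [hx, h0, zero_smul]), hx⟩
    have e2 : linAut R₀ = 1 := by
      have : R₀ = P * R * P⁻¹ := by rw [hRdef]; group
      rw [this, map_mul, map_mul, e1, map_inv, mul_one, mul_inv_cancel]
    exact hr1 (hinj (by rw [hR₀, map_one, e2]))
  have hRsq : ∀ x : F, x ≠ 0 → ((R * R : GL (Fin 2) F) : M₂) ≠ x • (1 : M₂) := by
    intro x hx0 hx
    have e1 : linAut (R * R) = 1 := linAut_eq_one_iff.mpr ⟨x, hx0, hx⟩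
    have e2 : linAut (R₀ * R₀) = 1 := by
      have : R₀ * R₀ = P * (R * R) * P⁻¹ := by rw [hRdef]; group
      rw [this, map_mul, map_mul, e1, map_inv, mul_one, mul_inv_cancel]
    exact hr2 (hinj (by rw [map_mul, hR₀, map_one, ← map_mul, e2]))
  set t : F := (R : M₂).trace with htdef
  set dR : F := (R : M₂).det with hdR
  have hdR0 : dR ≠ 0 := ((Matrix.isUnit_iff_isUnit_det _).mp R.isUnit).ne_zero
  have ht0 : t ≠ 0 := fun e0 => hRsq (-dR) (neg_ne_zero.mpr hdR0) (by
    rw [Units.val_mul, Mat.mul_self, ← htdef, e0, zero_smul, zero_sub, ← hdR, neg_smul])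
  -- the inversion
  obtain ⟨k, hk0, hk⟩ := linAut_eq_iff.mp (show linAut (C * R) = linAut (R⁻¹ * C) by
    have h1 : linAut (A * R₀) = linAut (R₀⁻¹ * A) := by
      rw [map_mul, map_mul, map_inv, ← hA, ← hR₀, ← map_inv, ← map_mul, ← map_mul, ← hinv]
      congr 1
      group
    have e1 : C * R = P⁻¹ * (A * R₀) * P := by rw [hCdef, hRdef]; group
    have e2 : R⁻¹ * C = P⁻¹ * (R₀⁻¹ * A) * P := by rw [hCdef, hRdef]; group
    rw [e1, e2, map_mul, map_mul (linAut (F := F)) P⁻¹, h1, ← map_mul, ← map_mul])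
  have hk' : (C : M₂) * R = (k / dR) • ((R : M₂).adjugate * C) := by
    rw [← Units.val_mul, hk, Units.val_mul, Matrix.coe_units_inv, Matrix.inv_def, smul_mul_assoc, smul_smul,
      Ring.inverse_eq_inv', ← hdR, div_eq_mul_inv]
  have hadj : (R : M₂).adjugate = t • (1 : M₂) - R := by
    ext i j
    rw [htdef, Matrix.adjugate_fin_two]
    fin_cases i <;> fin_cases j <;> simp [Matrix.trace_fin_two]
  have hk1 : k / dR = 1 := by
    have hd := congrArg Matrix.det hk'
    rw [Matrix.det_smul, Matrix.det_mul, Matrix.det_mul, Matrix.det_adjugate, Fintype.card_fin] at hd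
    have hne : (C : M₂).det * dR ≠ 0 :=
      mul_ne_zero ((Matrix.isUnit_iff_isUnit_det _).mp C.isUnit).ne_zero hdR0
    have hsq : (k / dR) ^ 2 = 1 := by
      refine mul_right_cancel₀ hne ?_
      rw [← hdR] at hd
      linear_combination -hd
    refine (sq_eq_one_iff.mp hsq).resolve_right fun e1 => ht0 ?_
    have hcRc : (C : M₂) * R * (C⁻¹ : GL (Fin 2) F) = -(R : M₂).adjugate := by
      rw [hk', e1, neg_one_smul, Matrix.neg_mul, mul_assoc, ← Units.val_mul, mul_inv_cancel, Units.val_one,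
        mul_one]
    have htr := congrArg Matrix.trace hcRc
    rw [Matrix.trace_mul_cycle, ← Units.val_mul, inv_mul_cancel, Units.val_one, one_mul, hadj,
      Matrix.trace_neg, Matrix.trace_sub, Matrix.trace_smul, Matrix.trace_one, ← htdef, Fintype.card_fin,
      smul_eq_mul] at htr
    push_cast at htr
    refine mul_left_cancel₀ h2 ?_
    linear_combination htr
  rw [hk1, one_smul, hadj, hCm] at hk'
  set p : F := t / 2 with hp
  set J : M₂ := (R : M₂) - p • (1 : M₂) with hJdef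
  have hJanti : Mat.comp s * J = -(J * Mat.comp s) := by
    rw [hJdef, mul_sub, hk', sub_mul, sub_mul, smul_mul_assoc, one_mul, mul_smul_comm, mul_one,
      smul_mul_assoc, one_mul, show t • Mat.comp s = (p + p) • Mat.comp s by rw [hp, ← two_mul, mul_div_cancel₀ t h2], add_smul]
    abel
  have hJ := Mat.anti_of_anticommute hJanti
  set hh := J 0 0 with hhdef
  set vv := J 1 0 with hvdef
  have hRJ : (R : M₂) = p • (1 : M₂) + Mat.anti s hh vv := by rw [← hJ, hJdef, add_sub_cancel]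
  have hsqR : (R : M₂) * R = (p ^ 2 + (hh ^ 2 - s * vv ^ 2)) • (1 : M₂) + (2 * p) • Mat.anti s hh vv := by
    rw [hRJ]
    ext i j
    fin_cases i <;> fin_cases j <;> simp [Mat.anti, Matrix.mul_apply, Fin.sum_univ_two] <;> ring
  refine Mat.core (H5.EvenCyclic.two_ne_zero_of_odd hodd) ?_ (p := p) (h := hh) (v := vv) hs ?_ ?_ ?_ ?_ ?_
  · obtain ⟨m, hm⟩ := hodd
    omega
  · by_contra hcon
    push Not at hcon
    refine hRns p ?_
    rw [hRJ, hcon.1, hcon.2]
    ext i j
    fin_cases i <;> fin_cases j <;> simp [Mat.anti]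
  · have : (R : M₂).det = p ^ 2 - (hh ^ 2 - s * vv ^ 2) := by
      rw [hRJ]
      simp [Mat.anti, Matrix.det_fin_two]
      ring
    rw [← this]; exact hdR0
  · exact div_ne_zero ht0 h2
  · intro hj
    have h4 : ((R * R * (R * R) : GL (Fin 2) F) : M₂) =
        (4 * p ^ 2 * (hh ^ 2 - s * vv ^ 2)) • (1 : M₂) := by
      rw [Units.val_mul, Units.val_mul, hsqR, hj, zero_smul, zero_add]
      ext i j
      fin_cases i <;> fin_cases j <;> simp [Mat.anti, Matrix.mul_apply, Fin.sum_univ_two] <;> ring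
    have hne : 4 * p ^ 2 * (hh ^ 2 - s * vv ^ 2) ≠ 0 := fun h0 =>
      (R * R * (R * R)).isUnit.ne_zero (by rw [h4, h0, zero_smul])
    have e1 : linAut (R * R * (R * R)) = 1 := linAut_eq_one_iff.mpr ⟨_, hne, h4⟩
    have e2 : linAut (R₀ * R₀ * (R₀ * R₀)) = 1 := by
      have : R₀ * R₀ * (R₀ * R₀) = P * (R * R * (R * R)) * P⁻¹ := by rw [hRdef]; group
      rw [this, map_mul, map_mul, e1, map_inv, mul_one, mul_inv_cancel]
    exact hr4 (hinj (by rw [map_mul, map_mul, hR₀, map_one, ← map_mul, ← map_mul, e2]))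
  · intro M hM hMsq hMC
    let Mg : GL (Fin 2) F := Matrix.GeneralLinearGroup.mkOfDetNeZero M hM
    have hMg : (Mg : M₂) = M := rfl
    obtain ⟨y, -, hy⟩ := exists_mem_of_det_sq e (P * Mg * P⁻¹) (by
      rw [Units.val_mul, Units.val_mul, Matrix.det_mul, Matrix.det_mul, mul_comm (P : M₂).det, mul_assoc,
        ← Matrix.det_mul, ← Units.val_mul, mul_inv_cancel, Units.val_one, Matrix.det_one, mul_one, hMg]
      exact hMsq)
    have hMC' : linAut (Mg * C) = linAut (C * Mg) := by
      rw [linAut_eq_iff]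
      rcases hMC with e1 | e1
      · exact ⟨1, one_ne_zero, by rw [one_smul, Units.val_mul, Units.val_mul, hMg, hCm, e1]⟩
      · exact ⟨-1, neg_ne_zero.mpr one_ne_zero, by
          rw [neg_one_smul, Units.val_mul, Units.val_mul, hMg, hCm, e1, neg_neg]⟩
    have hya : Commute y a := hinj (by
      have e1 : P * Mg * P⁻¹ * A = P * (Mg * C) * P⁻¹ := by rw [hCdef]; group
      have e2 : A * (P * Mg * P⁻¹) = P * (C * Mg) * P⁻¹ := by rw [hCdef]; group
      rw [map_mul, map_mul, hy, hA, ← map_mul, ← map_mul, e1, e2, map_mul,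
        map_mul (linAut (F := F)) P, hMC', ← map_mul, ← map_mul])
    have hlin : linAut (Mg * R * Mg⁻¹ * R) = linAut (R * (Mg * R * Mg⁻¹)) := by
      have key : ∀ g : GL (Fin 2) F, actHom K e y = linAut g →
          linAut (g * R₀ * g⁻¹ * R₀) = linAut (R₀ * (g * R₀ * g⁻¹)) := fun g hg => by
        simp only [map_mul, map_inv, ← hg, ← hR₀]
        simp only [← map_mul, ← map_inv]
        rw [(hcomm y hya).eq]
      have e0 := key _ hy
      have e1 : Mg * R * Mg⁻¹ * R = P⁻¹ * (P * Mg * P⁻¹ * R₀ * (P * Mg * P⁻¹)⁻¹ * R₀) * P := by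
        rw [hRdef]; group
      have e2 : R * (Mg * R * Mg⁻¹) = P⁻¹ * (R₀ * (P * Mg * P⁻¹ * R₀ * (P * Mg * P⁻¹)⁻¹)) * P := by
        rw [hRdef]; group
      rw [e1, e2, map_mul, map_mul (linAut (F := F)) P⁻¹, e0, ← map_mul, ← map_mul]
    obtain ⟨c, -, hc⟩ := linAut_eq_iff.mp hlin
    rw [Units.val_mul, Units.val_mul] at hc
    have hexact : ((Mg * R * Mg⁻¹ : GL (Fin 2) F) : M₂) * R = R * ((Mg * R * Mg⁻¹ : GL (Fin 2) F) : M₂) := by
      rcases Mat.twist_cases ((Matrix.isUnit_iff_isUnit_det _).mp (Mg * R * Mg⁻¹).isUnit)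
          ((Matrix.isUnit_iff_isUnit_det _).mp R.isUnit) hc with e1 | ⟨-, htr⟩
      · rw [e1, one_smul] at hc; exact hc
      · exfalso
        refine ht0 (mul_left_cancel₀ h2 ?_)
        rw [← htdef] at htr
        linear_combination htr
    have hadjM : M * (R : M₂) * M.adjugate = M.det • ((Mg * R * Mg⁻¹ : GL (Fin 2) F) : M₂) := by
      rw [Units.val_mul, Units.val_mul, Matrix.coe_units_inv, hMg, Matrix.inv_def, mul_smul_comm, smul_smul,
        Ring.inverse_eq_inv', mul_inv_cancel₀ hM, one_smul]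
    have hcX : Commute (M * (R : M₂) * M.adjugate) (R : M₂) := by
      rw [hadjM]
      exact (show Commute _ _ from hexact).smul_left _
    have hJM : M * Mat.anti s hh vv * M.adjugate = M * (R : M₂) * M.adjugate - (p * M.det) • (1 : M₂) := by
      rw [hRJ, mul_add, add_mul, mul_smul_comm, mul_one, smul_mul_assoc, Matrix.mul_adjugate, smul_smul,
        add_sub_cancel_left]
    have hJR : Mat.anti s hh vv = (R : M₂) - p • (1 : M₂) := by rw [hRJ, add_sub_cancel_left]
    rw [hJM]
    conv => arg 2; rw [hJR]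
    exact (hcX.sub_right ((Commute.one_right _).smul_right _)).sub_left ((Commute.one_left _).smul_left _)

end Cfsg.Agent.H36.GW
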