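import Cfsg.Agent.H36.GW.TorusPSL
import Cfsg.Agent.H36.GW.FusePSL
import Cfsg.Agent.H36.GW.Seven
import Cfsg.Agent.H36.GW.Layer
import Cfsg.Agent.PGroups.Basic

/-!
# GW programme, P1: `torus` and `fuse_fixed` in a group over `PSL(2,q)` or `A₇`
-/

set_option autoImplicit false
set_option linter.unusedSectionVars false

namespace Cfsg.Agent.H36.GW

open Subgroup Cfsg.Agent Cfsg.Agent.H4.GW Cfsg.Agent.H63.GW
open Cfsg.Agent.H56 (PSLn)
open Equiv (swap Perm)

universe u

variable {Y : Type u} [Group Y] [Finite Y] {K : Subgroup Y} [K.Normal]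

/-! ### `A₇` -/

/-- The embedding in the symmetric group. -/
theorem exists_perm_hom (h : SylowDType Y) (hC : centralizer (K : Set Y) = ⊥)
    (e : ↥K ≃* alternatingGroup (Fin 7)) :
    K = ⊤ ∧ ∃ f : Y →* Perm (Fin 7), Function.Injective f ∧ f.range = alternatingGroup (Fin 7) := by
  have hK := alt_shape h hC e
  refine ⟨hK, (alternatingGroup (Fin 7)).subtype.comp
    (e.toMonoidHom.comp ((MonoidHom.id Y).codRestrict K fun y => hK ▸ mem_top y)), ?_, ?_⟩
  · intro x y hxy
    have := e.injective (Subtype.ext hxy)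
    exact congrArg Subtype.val this
  · refine le_antisymm ?_ fun π hπ => ?_
    · rintro _ ⟨y, rfl⟩
      exact SetLike.coe_mem _
    · refine ⟨((e.symm ⟨π, hπ⟩ : ↥K) : Y), ?_⟩
      show ((e _ : alternatingGroup (Fin 7)) : Perm (Fin 7)) = π
      rw [show (MonoidHom.id Y).codRestrict K (fun y => hK ▸ mem_top y) ((e.symm ⟨π, hπ⟩ : ↥K) : Y) =
        e.symm ⟨π, hπ⟩ from Subtype.ext rfl, e.apply_symm_apply]

theorem a₀_mem : Seven.a₀ ∈ alternatingGroup (Fin 7) := by
  rw [Equiv.Perm.mem_alternatingGroup]; decide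

theorem d₀_mem : Seven.d₀ ∈ alternatingGroup (Fin 7) := by
  rw [Equiv.Perm.mem_alternatingGroup]; decide

/-- `A₇` has one class of involutions. -/
theorem alt_isConj (h : SylowDType Y) (e : ↥K ≃* alternatingGroup (Fin 7)) (hK : K = ⊤) {a b : Y}
    (ha : orderOf a = 2) (hb : orderOf b = 2) : IsConj a b := by
  haveI : IsSimpleGroup ↥K := SimpleShape.isSimpleGroup (L := ↥K) (Or.inr ⟨e⟩)
  subst hK
  haveI : IsSimpleGroup Y := (Subgroup.topEquiv (G := Y)).isSimpleGroup_congr.1 inferInstance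
  haveI : Group.IsPerfect Y := by
    refine ⟨(IsSimpleGroup.eq_bot_or_eq_top_of_normal (_root_.commutator Y) inferInstance).resolve_left
      fun hb' => ?_⟩
    have hab : ∀ x y : Y, x * y = y * x := fun x y => by
      have := commutator_mem_commutator (H₁ := (⊤ : Subgroup Y)) (H₂ := ⊤) (mem_top x) (mem_top y)
      rw [← _root_.commutator_def, hb', mem_bot] at this
      exact commutatorElement_eq_one_iff_mul_comm.mp this
    rcases IsSimpleGroup.eq_bot_or_eq_top_of_normal (zpowers a)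
        ⟨fun x hx y => by rwa [hab y x, mul_inv_cancel_right]⟩ with e1 | e1
    · exact H39.ne_one_of_orderOf_eq_two ha (zpowers_eq_bot.mp e1)
    · have h2 := Nat.card_zpowers a
      rw [e1, ha, Nat.card_congr e.toEquiv, nat_card_alternatingGroup] at h2
      simp at h2
      revert h2
      decide
  obtain ⟨T, l, c, s, hD⟩ := exists_dGen_perfect h
  exact (hD.isConj_z_of_no_index_two not_index_two_perfect ha).symm.trans
    (hD.isConj_z_of_no_index_two not_index_two_perfect hb)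

/-- An involution of `A₇` becomes `a₀` after renumbering. -/
theorem exists_perm_normalised (h : SylowDType Y) (hC : centralizer (K : Set Y) = ⊥)
    (e : ↥K ≃* alternatingGroup (Fin 7)) {a : Y} (ha : orderOf a = 2) :
    ∃ f : Y →* Perm (Fin 7), Function.Injective f ∧ f.range = alternatingGroup (Fin 7) ∧ f a = Seven.a₀ := by
  obtain ⟨hK, f, hf, hfr⟩ := exists_perm_hom h hC e
  obtain ⟨a₁, ha₁⟩ : Seven.a₀ ∈ f.range := hfr ▸ a₀_mem
  have ho : orderOf a₁ = 2 := by
    rw [← orderOf_injective f hf, ha₁]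
    exact orderOf_eq_prime (by decide) (by decide)
  obtain ⟨g, hg⟩ := isConj_iff.mp (alt_isConj h e hK ha ho)
  refine ⟨(MulAut.conj (f g)).toMonoidHom.comp f, (MulAut.conj (f g)).injective.comp hf, ?_, ?_⟩
  · refine le_antisymm ?_ fun π hπ => ?_
    · rintro _ ⟨y, rfl⟩
      rw [← hfr]
      exact ⟨g * y * g⁻¹, by rw [map_mul, map_mul, map_inv]; rfl⟩
    · obtain ⟨y, rfl⟩ := hfr ▸ hπ
      exact ⟨g⁻¹ * y * g, by
        show f g * f (g⁻¹ * y * g) * (f g)⁻¹ = f y
        rw [← map_inv, ← map_mul, ← map_mul]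
        congr 1; group⟩
  · show f g * f a * (f g)⁻¹ = Seven.a₀
    rw [← map_inv, ← map_mul, ← map_mul, hg, ha₁]

/-! ### torus -/

/-- Elements of one prime order in a nilpotent subgroup lie in a commutative subgroup when the cube of
the prime does not divide the order of the ambient group. -/
theorem commute_of_prime {p : ℕ} [Fact p.Prime] (hp : ¬ p ^ 3 ∣ Nat.card Y) {N : Subgroup Y}
    (hN : Group.IsNilpotent ↥N) {x y : Y} (hx : x ∈ N) (hy : y ∈ N) (hxp : orderOf x = p)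
    (hyp : orderOf y = p) : Commute x y := by
  obtain ⟨P⟩ : Nonempty (Sylow p ↥N) := inferInstance
  haveI hPn : (P : Subgroup ↥N).Normal :=
    (Group.isNilpotent_of_finite_tfae (G := ↥N)).out 0 3 rfl rfl |>.mp hN p inferInstance P
  have hmem : ∀ z : ↥N, orderOf z = p → z ∈ (P : Subgroup ↥N) := by
    intro z hz
    obtain ⟨w, hw⟩ := H39.exists_conj_le_sylow
      (R := zpowers z) (IsPGroup.of_card (n := 1) (by rw [Nat.card_zpowers, hz, pow_one])) P
    have h1 := hPn.conj_mem _ (hw z (mem_zpowers z)) w⁻¹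
    simpa [mul_assoc] using h1
  obtain ⟨k, hk⟩ := IsPGroup.iff_card.mp P.isPGroup'
  have hk2 : k ≤ 2 := by
    by_contra hlt
    refine hp ((pow_dvd_pow p (show 3 ≤ k by omega)).trans ?_)
    rw [← hk]
    exact ((P : Subgroup ↥N).card_subgroup_dvd_card).trans N.card_subgroup_dvd_card
  have hcomm : ∀ u v : ↥(P : Subgroup ↥N), u * v = v * u := by
    interval_cases k
    · haveI : Subsingleton ↥(P : Subgroup ↥N) := (Nat.card_eq_one_iff_unique.mp (by simpa using hk)).1
      exact fun u v => Subsingleton.elim _ _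
    · haveI : IsCyclic ↥(P : Subgroup ↥N) := isCyclic_of_prime_card (p := p) (by simpa using hk)
      exact fun u v => (IsCyclic.isMulCommutative (α := ↥(P : Subgroup ↥N))).is_comm.comm u v
    · exact fun u v => (IsPGroup.isMulCommutative_of_card_eq_prime_sq hk).is_comm.comm u v
  have := hcomm ⟨⟨x, hx⟩, hmem _ (by rw [← Subgroup.orderOf_coe]; exact hxp)⟩
    ⟨⟨y, hy⟩, hmem _ (by rw [← Subgroup.orderOf_coe]; exact hyp)⟩
  exact congrArg (fun z : ↥(P : Subgroup ↥N) => ((z : ↥N) : Y)) this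

/-- `torus` for `A₇`. -/
theorem alt_torus (h : SylowDType Y) (hC : centralizer (K : Set Y) = ⊥)
    (e : ↥K ≃* alternatingGroup (Fin 7)) {a : Y} (ha : orderOf a = 2) {N : Subgroup Y}
    (hNo : Odd (Nat.card N)) (hN : Group.IsNilpotent ↥N)
    (hnorm : ∀ y : Y, Commute y a → y ∈ normalizer (N : Set Y)) {k : Y} (hk : k ∈ N) : Commute k a := by
  by_contra hka
  obtain ⟨f, hf, hfr, hfa⟩ := exists_perm_normalised h hC e ha
  obtain ⟨hK, -, -, -⟩ := exists_perm_hom h hC e
  have haa : a * a = 1 := H39.mul_self_of_orderOf_eq_two ha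
  have hai : a⁻¹ = a := inv_eq_of_mul_eq_one_right haa
  set r₀ := k * a * k⁻¹ * a⁻¹ with hr₀
  have hr₀N : r₀ ∈ N := by
    rw [hr₀, show k * a * k⁻¹ * a⁻¹ = k * (a * k⁻¹ * a⁻¹) by group]
    exact mul_mem hk ((mem_normalizer_iff.mp (hnorm a (Commute.refl a)) _).mp (inv_mem hk))
  have hr₀1 : r₀ ≠ 1 := fun e1 => hka (mul_inv_eq_iff_eq_mul.mp (mul_inv_eq_one.mp e1))
  have hr₀inv : a * r₀ * a⁻¹ = r₀⁻¹ := by rw [hr₀, hai]; simp only [mul_inv_rev, inv_inv, hai]; group; rw [mul_assoc _ a a, haa, mul_one]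
  obtain ⟨p, hp, hpd⟩ := Nat.exists_prime_and_dvd (fun e1 => hr₀1 (orderOf_eq_one_iff.mp e1))
  haveI := Fact.mk hp
  set r := r₀ ^ (orderOf r₀ / p) with hr
  have hrp : orderOf r = p := orderOf_pow_orderOf_div (orderOf_pos r₀).ne' hpd
  have hrN : r ∈ N := pow_mem hr₀N _
  have hrinv : a * r * a⁻¹ = r⁻¹ := by rw [hr, ← conj_pow, hr₀inv, inv_pow]
  have hp2 : p ≠ 2 := fun e2 => by
    have := hNo.of_dvd_nat (Subgroup.orderOf_dvd_natCard N hrN)
    rw [hrp, e2] at this
    exact absurd this (by decide)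
  have hcard : Nat.card Y = 2520 := by
    rw [← Subgroup.card_top (G := Y), ← hK, Nat.card_congr e.toEquiv, nat_card_alternatingGroup]
    simp
    decide
  have hp3 : ¬ p ^ 3 ∣ Nat.card Y := by
    rw [hcard]
    intro hd
    have hle := Nat.le_of_dvd (by norm_num) hd
    have hp14 : p < 14 := by
      by_contra hlt
      have : 14 ^ 3 ≤ p ^ 3 := Nat.pow_le_pow_left (by omega) 3
      omega
    interval_cases p <;> first | omega | exact absurd hp (by decide) | exact absurd hd (by decide)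
  obtain ⟨d, hd⟩ : Seven.d₀ ∈ f.range := hfr ▸ d₀_mem
  have hda : Commute d a := hf (by rw [map_mul, map_mul, hd, hfa]; decide)
  have hcomm : Commute (d * r * d⁻¹) r := commute_of_prime hp3 hN
    ((mem_normalizer_iff.mp (hnorm d hda) r).mp hrN) hrN (by rw [H39.orderOf_conj, hrp]) hrp
  have hraa : (r * a) * (r * a) = 1 := by
    rw [hai] at hrinv
    calc (r * a) * (r * a) = r * (a * r * a) := by group
      _ = 1 := by rw [hrinv, mul_inv_cancel]
  have hra1 : r * a ≠ 1 := fun e1 => hp2 (by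
    rw [← hrp, eq_inv_of_mul_eq_one_left e1, hai, ha])
  obtain ⟨g, hg⟩ := isConj_iff.mp (alt_isConj h e hK ha (H39.orderOf_eq_two_of_mul_self hraa hra1))
  have hfg : f r = swap (f g 0) (f g 1) * swap (f g 2) (f g 3) * Seven.a₀ := by
    rw [Equiv.swap_apply_apply, Equiv.swap_apply_apply]
    have : f r = f g * f a * (f g)⁻¹ * f a := by
      rw [← map_inv, ← map_mul, ← map_mul, hg, ← map_mul, mul_assoc, haa, mul_one]
    rw [this, hfa]
    show f g * (swap 0 1 * swap 2 3) * (f g)⁻¹ * Seven.a₀ = _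
    group
  have hnd : [f g 0, f g 1, f g 2, f g 3].Nodup := by
    rw [show [f g 0, f g 1, f g 2, f g 3] = List.map (f g) [0, 1, 2, 3] from rfl]
    exact (List.Nodup.map (f g).injective) (by decide)
  rcases Seven.torus_check _ _ _ _ hnd with e4 | e4
  · rw [← hfg, ← map_pow, ← map_one f] at e4
    have h4 := orderOf_dvd_of_pow_eq_one (hf e4)
    rw [hrp] at h4
    exact hp2 ((Nat.prime_dvd_prime_iff_eq hp Nat.prime_two).mp (hp.dvd_of_dvd_pow (show p ∣ 2 ^ 2 from h4)))
  · refine e4 ?_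
    rw [← hfg, ← hd, ← map_inv, ← map_mul, ← map_mul, ← map_mul, ← map_mul, hcomm.eq]

/-- `torus` over `PSL(2,q)`. -/
theorem psl_torus {F : Type} [Field F] [Fintype F] (e : ↥K ≃* PSLn 2 F) (h : SylowDType Y)
    (hodd : Odd (Fintype.card F)) (h3 : 3 < Fintype.card F) (hC : centralizer (K : Set Y) = ⊥) {a : Y}
    (ha : orderOf a = 2) {N : Subgroup Y} (hNo : Odd (Nat.card N)) (hN : Group.IsNilpotent ↥N)
    (hnorm : ∀ y : Y, Commute y a → y ∈ normalizer (N : Set Y)) {k : Y} (hk : k ∈ N) : Commute k a := by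
  have haa : a * a = 1 := H39.mul_self_of_orderOf_eq_two ha
  have hai : a⁻¹ = a := inv_eq_of_mul_eq_one_right haa
  set r := k * a * k⁻¹ * a⁻¹ with hr
  set M := (fieldPartHom e).ker with hM
  have haM : a ∈ M := MonoidHom.mem_ker.2 (fieldPart_involution e h hodd hC haa)
  have hrM : r ∈ M := mul_mem (Normal.conj_mem inferInstance a haM k) (inv_mem haM)
  have hrN : r ∈ N := by
    rw [hr, show k * a * k⁻¹ * a⁻¹ = k * (a * k⁻¹ * a⁻¹) by group]
    exact mul_mem hk ((mem_normalizer_iff.mp (hnorm a (Commute.refl a)) _).mp (inv_mem hk))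
  have hinv : a * r * a⁻¹ = r⁻¹ := by rw [hr, hai]; simp only [mul_inv_rev, inv_inv, hai]; group; rw [mul_assoc _ a a, haa, mul_one]
  have hr1 : r = 1 := by
    by_contra hne
    haveI : Group.IsNilpotent ↥(N ⊓ M : Subgroup Y) :=
      haveI := hN
      nilpotent_of_mulEquiv (subgroupOfEquivOfLe (inf_le_left : N ⊓ M ≤ N))
    haveI : Nontrivial ↥(N ⊓ M : Subgroup Y) :=
      (Subgroup.nontrivial_iff_ne_bot _).mpr fun e0 => hne (mem_bot.mp (e0 ▸ mem_inf.mpr ⟨hrN, hrM⟩))
    obtain ⟨z, hz, hz1⟩ : ∃ z ∈ center ↥(N ⊓ M : Subgroup Y), z ≠ 1 :=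
      ((center ↥(N ⊓ M : Subgroup Y)).bot_or_exists_ne_one).resolve_left
        (Group.IsNilpotent.center_ne_bot _)
    refine hne (psl_no_inverted e h hodd hC h3 haa (H39.ne_one_of_orderOf_eq_two ha) hrM
      (hNo.of_dvd_nat (Subgroup.orderOf_dvd_natCard N hrN)) hinv fun y hy => ?_)
    have hyr : y * r * y⁻¹ ∈ N ⊓ M := ⟨(mem_normalizer_iff.mp (hnorm y hy) r).mp hrN,
      Normal.conj_mem inferInstance r hrM y⟩
    have hcz : ∀ w ∈ N ⊓ M, Commute w (z : Y) := fun w hw =>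
      congrArg Subtype.val (mem_center_iff.mp hz ⟨w, hw⟩)
    exact commute_of_odd e h hodd hC hyr.2 hrM z.2.2
      (hNo.of_dvd_nat (Subgroup.orderOf_dvd_natCard N z.2.1)) (fun e1 => hz1 (Subtype.ext e1))
      (hcz _ hyr) (hcz _ ⟨hrN, hrM⟩)
  exact mul_inv_eq_iff_eq_mul.mp (mul_inv_eq_one.mp (hr ▸ hr1))

theorem torus_of_shape (h : SylowDType Y) (hK : SimpleShape ↥K) (hC : centralizer (K : Set Y) = ⊥) {a : Y}
    (ha : orderOf a = 2) {N : Subgroup Y} (hNo : Odd (Nat.card N)) (hN : Group.IsNilpotent ↥N)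
    (hnorm : ∀ y : Y, Commute y a → y ∈ normalizer (N : Set Y)) {k : Y} (hk : k ∈ N) : Commute k a := by
  rcases hK with ⟨F, _, _, hodd, h3, ⟨e⟩⟩ | ⟨⟨e⟩⟩
  · exact psl_torus e h hodd h3 hC ha hNo hN hnorm hk
  · exact alt_torus h hC e ha hNo hN hnorm hk

/-! ### fuse_fixed -/

theorem fuse_of_shape (h : SylowDType Y) (hK : SimpleShape ↥K) (hC : centralizer (K : Set Y) = ⊥) {a b : Y}
    (ha : a ∈ K) (hb : b ∈ K) (ha2 : orderOf a = 2) (hb2 : orderOf b = 2) (hne : a ≠ b) (hab : Commute a b) :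
    ∃ g ∈ K, g * a * g⁻¹ = b ∧ g * b * g⁻¹ = a * b ∧
      ∀ x : Y, Commute x a → Commute x b → Odd (orderOf x) → Commute g x := by
  have hsimp := hK.isSimpleGroup
  haveI : Nontrivial ↥K := hsimp.toNontrivial
  haveI : Group.IsPerfect ↥K := by
    refine ⟨(hsimp.eq_bot_or_eq_top_of_normal (_root_.commutator ↥K) inferInstance).resolve_left fun hb' => ?_⟩
    have hab' : ∀ x y : ↥K, x * y = y * x := fun x y => by
      have := commutator_mem_commutator (H₁ := (⊤ : Subgroup ↥K)) (H₂ := ⊤) (mem_top x) (mem_top y)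
      rw [← _root_.commutator_def, hb', mem_bot] at this
      exact commutatorElement_eq_one_iff_mul_comm.mp this
    rcases hsimp.eq_bot_or_eq_top_of_normal (zpowers (⟨a, ha⟩ : ↥K))
        ⟨fun x hx y => by rwa [hab' y x, mul_inv_cancel_right]⟩ with e1 | e1
    · exact H39.ne_one_of_orderOf_eq_two ha2 (congrArg Subtype.val (zpowers_eq_bot.mp e1))
    · have hbm : (⟨b, hb⟩ : ↥K) ∈ zpowers (⟨a, ha⟩ : ↥K) := e1 ▸ mem_top _
      obtain ⟨i, hi⟩ := mem_zpowers_iff.mp hbm
      have hi' : a ^ i = b := congrArg Subtype.val hi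
      rcases Int.even_or_odd' i with ⟨j, rfl | rfl⟩
      · rw [zpow_mul, zpow_two, H39.mul_self_of_orderOf_eq_two ha2, one_zpow] at hi'
        exact H39.ne_one_of_orderOf_eq_two hb2 hi'.symm
      · rw [zpow_add, zpow_mul, zpow_two, H39.mul_self_of_orderOf_eq_two ha2, one_zpow, one_mul, zpow_one] at hi'
        exact hne hi'
  obtain ⟨T, l, c, s, hD⟩ := exists_dGen_perfect (h.subgroup K)
  obtain ⟨g, h1, h2⟩ := exists_fuses_pair hD not_index_two_perfect (a := ⟨a, ha⟩) (b := ⟨b, hb⟩)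
    (by rw [← Subgroup.orderOf_coe]; exact ha2) (by rw [← Subgroup.orderOf_coe]; exact hb2)
    (fun e1 => hne (congrArg Subtype.val e1)) (Subtype.ext hab.eq)
  have h1' : (g : Y) * a * (g : Y)⁻¹ = b := congrArg Subtype.val h1
  have h2' : (g : Y) * b * (g : Y)⁻¹ = a * b := congrArg Subtype.val h2
  have haa := H39.mul_self_of_orderOf_eq_two ha2
  have hbb := H39.mul_self_of_orderOf_eq_two hb2
  rcases hK with ⟨F, _, _, hodd, -, ⟨e⟩⟩ | ⟨⟨e⟩⟩
  · exact ⟨g, g.2, h1', h2', fun x hxa hxb hxo => psl_fuse_commute e h hodd hC haa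
      (H39.ne_one_of_orderOf_eq_two ha2) hbb (H39.ne_one_of_orderOf_eq_two hb2) hne hab g.2 h1' h2' hxa hxb hxo⟩
  · obtain ⟨hKt, -⟩ := exists_perm_hom h hC e
    obtain ⟨f, hf, hfr, hfa⟩ := exists_perm_normalised h hC e ha2
    have hfc : ∀ {x : Y}, Commute x a → f x ∈ Seven.cent := fun {x} hx =>
      Seven.mem_cent (by rw [← hfa, ← map_mul, ← map_mul, hx.eq])
    have hthree : ∀ {x : Y}, Commute x a → Odd (orderOf x) → f x ^ 3 = 1 := fun {x} hx hxo => by
      have h12 := orderOf_dvd_of_pow_eq_one (Seven.pow_twelve _ (hfc hx))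
      rw [orderOf_injective f hf] at h12
      have h3 : orderOf x ∣ 3 := by
        have hcop : Nat.Coprime (orderOf x) (2 ^ 2) := Nat.Coprime.pow_right 2 (Nat.coprime_two_right.mpr hxo)
        exact hcop.dvd_of_dvd_mul_right (show orderOf x ∣ 3 * 2 ^ 2 from h12)
      rw [← map_pow, orderOf_dvd_iff_pow_eq_one.mp h3, map_one]
    have hfb : f b * Seven.a₀ = Seven.a₀ * f b := by rw [← hfa, ← map_mul, ← map_mul, hab.eq]
    rcases Seven.fuse_check (Seven.mem_cent hfb) (by rw [← map_mul, hbb, map_one])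
        (fun e1 => H39.ne_one_of_orderOf_eq_two hb2 (hf (e1.trans (map_one f).symm)))
        (fun e1 => hne (hf (hfa.trans e1.symm)))
        (Equiv.Perm.mem_alternatingGroup.mp (hfr ▸ ⟨b, rfl⟩)) with hc | ⟨π, hπa, hπb, hπs, hπ⟩
    · refine ⟨g, g.2, h1', h2', fun x hxa hxb hxo => ?_⟩
      have := hc (f x) (hfc hxa) (by rw [← map_mul, ← map_mul, hxb.eq]) (hthree hxa hxo)
      rw [hf (this.trans (map_one f).symm)]
      exact Commute.one_right _
    · obtain ⟨g', rfl⟩ : π ∈ f.range := hfr ▸ Equiv.Perm.mem_alternatingGroup.mpr hπs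
      refine ⟨g', hKt ▸ mem_top _, hf ?_, hf ?_, fun x hxa hxb hxo => hf ?_⟩
      · rw [map_mul, map_mul, map_inv, hfa, hπa]
      · rw [map_mul, map_mul, map_inv, hπb, map_mul, hfa]
      · rw [map_mul, map_mul]
        exact hπ (f x) (hfc hxa) (by rw [← map_mul, ← map_mul, hxb.eq]) (hthree hxa hxo)

end Cfsg.Agent.H36.GW
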